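import Groth.Agent.StMod.K784.Geo
import Groth.Agent.StMod.K907.Chart
import Groth.Agent.StMod.K907.FibTerm
import Groth.Agent.StMod.K906.SpGeo
import Groth.Agent.StMod.K906.PresQc
import Groth.Agent.AlgSt.K740.SpDM
import Groth.Prelude.Def_StMod2

/-!
# The atlas of `ofSp M` by all affine étale objects (helper815)

* `ch E`, `rep_ch`: the chart of an étale object;
* `etAtlas hM : FAtlas (ofSp M)` with index type the affine étale objects and `Z E = etaOf E`.
-/

set_option autoImplicit false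
set_option linter.unusedVariables false
set_option linter.style.haveILetI false
set_option backward.isDefEq.respectTransparency false
set_option backward.isDefEq.respectTransparency.types false

universe u

open CategoryTheory CategoryTheory.Limits AlgebraicGeometry Opposite StMod AlgSt AlgSp

namespace K815.EtAtlas

open K906 K906.Span K734.Fib K735.Rep K740.RepBC K784.Geo K908.Desc K907

variable {S : Scheme.{u}} {M : Sp S}

/-- The chart of an étale object. -/
noncomputable def ch (E : EtOver M) : FibCat.overCat E.obj.left ⥤ᵇ ofSp M :=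
  BasedFunctor.comp (AlgSt.ofOverCat E.obj.left) (AlgSt.ofSpMap E.obj.hom)

theorem rep_ch (E : EtOver M) : RepByAlgSpWith (LocP @Smooth) (ch E) := by
  refine (K740.SpDM.repByAlgSpWith_equiv_comp (isEquivOver_ofOverCat E.obj.left)).2 ?_
  refine K740.SpDM.repByAlgSpWith_ofSpMap_of_repWith E.obj.hom E.property fun w hw => ?_
  have hw' : Etale w.left := hw
  exact K744.TorsProp.locP_yon @Smooth K597.etLoc_smooth w (inferInstance : Smooth w.left)

theorem ch_obj (E : EtOver M) : (ch E).obj (one E.obj.left) = etaOf E := rfl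

/-- The affine étale objects. -/
abbrev AffEt (M : Sp S) : Type (u + 1) := {E : EtOver M // IsAffine E.obj.left.left}

theorem exists_cov (hM : IsAlgSpace M) (z : (ofSp M).obj) (hz : IsAffine (sch (ofSp M) z)) :
    ∃ (z' : (ofSp M).obj) (f : z' ⟶ z) (E : AffEt M) (_ : z' ⟶ etaOf E.1), IsAffine (sch (ofSp M) z') ∧
      Smooth (bmap (ofSp M) f) ∧ Surjective (bmap (ofSp M) f) := by
  obtain ⟨U, p, hp1, hp2⟩ := hM.atlas
  let E₀ : EtOver M := EtOver.mk p hp1
  have hs : RepByAlgSpWith IsSurjectiveMor (ch E₀) := by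
    refine (K740.SpDM.repByAlgSpWith_equiv_comp (isEquivOver_ofOverCat U)).2 ?_
    exact K740.SpDM.repByAlgSpWith_ofSpMap_of_repWith p hp2 fun w hw => K744.TorsProp.surj_yon w hw
  obtain ⟨A, hA⟩ := Chart.exists_smAtlas_etale FibTerm.isFibGrpd_ofSp (ch E₀) (rep_ch E₀) hs
  obtain ⟨z', f, j, d, h1, h2, h3⟩ := A.cov z hz
  obtain ⟨c, hc⟩ := hA j
  have hEt : SpGeo.IsEt (A.Z j) := SpGeo.isEt_of_hom (SpGeo.isEt_etaOf E₀) c hc
  have hZ := A.affine j
  obtain ⟨E, hE⟩ := SpGeo.exists_etaOf hEt
  rw [← hE] at d hZ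
  exact ⟨z', f, ⟨E, hZ⟩, d, h1, h2, h3⟩

/-- The atlas of all affine étale objects. -/
noncomputable def etAtlas (hM : IsAlgSpace M) : FAtlas.{u + 1} (ofSp M) where
  J := AffEt M
  Z E := ⟨etaOf E.1, E.2⟩
  cov z := by
    obtain ⟨z', f, j, d, h1, h2, h3⟩ := exists_cov hM z.obj z.property
    refine ⟨⟨z', h1⟩, ObjectProperty.homMk f, j, ObjectProperty.homMk d, ⟨?_, h3⟩⟩
    change Flat (bmap (ofSp M) f)
    infer_instance
  span z {i j} a b := by
    obtain ⟨F, π, R, -, -⟩ := exists_spanRep_atlas FibTerm.isFibGrpd_ofSp (rep_ch j.1) (etaOf i.1)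
    obtain ⟨z', θ, f, p, q, e, h1, h2, h3, h4, h5, -, h6, h7⟩ :=
      R.exists_chart FibTerm.isFibGrpd_ofSp F.property z.property a.hom b.hom
    have hp : Smooth (bmap (ofSp M) p) := smooth_of_spanWith FibTerm.isFibGrpd_ofSp (rep_ch j.1) h5
    have hq : Smooth (bmap (ofSp M) q) := smooth_of_spanWith (ζ := etaOf j.1) (p := q) (q := p)
      FibTerm.isFibGrpd_ofSp (rep_ch i.1) h5.swap
    refine ⟨⟨z', h1⟩, ⟨θ, h2⟩, ObjectProperty.homMk f, ObjectProperty.homMk p, ObjectProperty.homMk q,
      ObjectProperty.homMk e, ⟨?_, h4⟩, h5.mono etale_le_flat, ?_, ?_, ObjectProperty.hom_ext _ h6,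
      ObjectProperty.hom_ext _ h7⟩
    · change Flat (bmap (ofSp M) f)
      infer_instance
    · change Flat (bmap (ofSp M) p)
      infer_instance
    · change Flat (bmap (ofSp M) q)
      infer_instance

end K815.EtAtlas
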