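import Groth.Agent.StMod.K907.Alg

/-!
# Bijectivity tested on flat base changes hitting all maximal ideals (helper815)

* `eq_zero_of_flat_local`, `mem_of_flat_local`, `bijective_of_flat_local`.
-/

set_option autoImplicit false
set_option linter.unusedVariables false
set_option linter.style.haveILetI false
set_option backward.isDefEq.respectTransparency false
set_option backward.isDefEq.respectTransparency.types false

universe u

open CategoryTheory

namespace K815.FlLoc

open Groth.Agent.CohqA.BaseChangeMod K907.Alg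

variable {A B : Type u} [CommRing A] [CommRing B]

theorem isBC_self (φ : A →+* B) : IsBC φ (φ : A →+ B) := by
  letI := φ.toAlgebra
  exact (isBC_iff_isBaseChange (A := A) (B := B) (Algebra.linearMap A B)).2 (IsBaseChange.linearMap A B)

/-- The annihilator of an element vanishing in a flat base change generates the unit ideal. -/
theorem map_ann_eq_top {φ : A →+* B} (hφ : φ.Flat) {K K' : Type u} [AddCommGroup K] [Module A K] [AddCommGroup K']
    [Module B K'] {f : K →+ K'} (hf : IsBC φ f) {y : K} (hy : f y = 0) :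
    Ideal.map φ (LinearMap.ker (LinearMap.toSpanSingleton A K y) : Ideal A) = ⊤ := by
  let I : Submodule A A := LinearMap.ker (LinearMap.toSpanSingleton A K y)
  let d : A ⧸ I →ₗ[A] K := I.liftQ (LinearMap.toSpanSingleton A K y) le_rfl
  have hd : Function.Injective d := by
    rw [← LinearMap.ker_eq_bot]
    exact Submodule.ker_liftQ_eq_bot _ _ _ le_rfl
  have h1 := isBC_quotMap (isBC_self φ) I
  let J : Submodule B B := ext (φ : A →+ B) I
  have hJ : J ≤ LinearMap.ker (LinearMap.toSpanSingleton B K' (f y)) := by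
    rw [hy]
    intro x _
    rw [LinearMap.mem_ker, LinearMap.toSpanSingleton_apply, smul_zero]
  let d' : B ⧸ J →ₗ[B] K' := J.liftQ (LinearMap.toSpanSingleton B K' (f y)) hJ
  have hd' : Function.Injective d' := by
    refine injective_of_flat hφ h1 hf d d' (fun x => ?_) hd
    induction x using Submodule.Quotient.induction_on with
    | H a =>
      rw [quotMap_mk]
      change (φ a) • f y = f (a • y)
      rw [hf.map_smul]
  have h2 : (Submodule.Quotient.mk (1 : B) : B ⧸ J) = 0 := by
    apply hd'
    rw [map_zero]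
    change (1 : B) • f y = 0
    rw [hy, smul_zero]
  rw [Submodule.Quotient.mk_eq_zero] at h2
  exact (Ideal.eq_top_iff_one _).2 h2

/-- An element vanishing in flat base changes hitting all maximal ideals is zero. -/
theorem eq_zero_of_flat_local {K : Type u} [AddCommGroup K] [Module A K] (y : K)
    (h : ∀ p : Ideal A, p.IsMaximal → ∃ (B : Type u) (_ : CommRing B) (φ : A →+* B) (K' : Type u) (_ : AddCommGroup K')
      (_ : Module B K') (f : K →+ K'), φ.Flat ∧ (∃ q : Ideal B, q ≠ ⊤ ∧ p ≤ q.comap φ) ∧ IsBC φ f ∧ f y = 0) :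
    y = 0 := by
  by_contra hy
  have hI : (LinearMap.ker (LinearMap.toSpanSingleton A K y) : Ideal A) ≠ ⊤ := by
    intro hI
    apply hy
    have h1 : (1 : A) ∈ LinearMap.ker (LinearMap.toSpanSingleton A K y) := by
      rw [hI]
      trivial
    rw [LinearMap.mem_ker, LinearMap.toSpanSingleton_apply, one_smul] at h1
    exact h1
  obtain ⟨p, hp, hle⟩ := Ideal.exists_le_maximal _ hI
  obtain ⟨B, _, φ, K', _, _, f, h1, ⟨q, hq, hpq⟩, h2, h3⟩ := h p hp
  refine hq (top_le_iff.1 ?_)
  rw [← map_ann_eq_top h1 h2 h3, Ideal.map_le_iff_le_comap]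
  exact hle.trans hpq

theorem mem_of_flat_local {N : Type u} [AddCommGroup N] [Module A N] (L : Submodule A N) (y : N)
    (h : ∀ p : Ideal A, p.IsMaximal → ∃ (B : Type u) (_ : CommRing B) (φ : A →+* B) (N' : Type u) (_ : AddCommGroup N')
      (_ : Module B N') (f : N →+ N'), φ.Flat ∧ (∃ q : Ideal B, q ≠ ⊤ ∧ p ≤ q.comap φ) ∧ IsBC φ f ∧
        f y ∈ (ext f L : Submodule B N')) : y ∈ L := by
  rw [← Submodule.Quotient.mk_eq_zero]
  refine eq_zero_of_flat_local (A := A) _ fun p hp => ?_
  obtain ⟨B, _, φ, N', _, _, f, h1, h2, h3, h4⟩ := h p hp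
  refine ⟨B, inferInstance, φ, N' ⧸ (ext f L : Submodule B N'), inferInstance, inferInstance,
    quotMap f L (ext f L : Submodule B N') (fun _ hx => mem_ext f hx), h1, h2, isBC_quotMap h3 L, ?_⟩
  rw [quotMap_mk, Submodule.Quotient.mk_eq_zero]
  exact h4

/-- Bijectivity is tested on flat base changes hitting all maximal ideals. -/
theorem bijective_of_flat_local {M N : Type u} [AddCommGroup M] [Module A M] [AddCommGroup N] [Module A N]
    (d : M →ₗ[A] N)
    (h : ∀ p : Ideal A, p.IsMaximal → ∃ (B : Type u) (_ : CommRing B) (φ : A →+* B) (M' N' : Type u) (_ : AddCommGroup M')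
      (_ : Module B M') (_ : AddCommGroup N') (_ : Module B N') (f : M →+ M') (g : N →+ N') (d' : M' →+ N'), φ.Flat ∧
        (∃ q : Ideal B, q ≠ ⊤ ∧ p ≤ q.comap φ) ∧ IsBC φ f ∧ IsBC φ g ∧ (∀ (b : B) (x : M'), d' (b • x) = b • d' x) ∧
        (∀ x, d' (f x) = g (d x)) ∧ Function.Bijective d') : Function.Bijective d := by
  constructor
  · rw [injective_iff_map_eq_zero]
    intro y hy
    refine eq_zero_of_flat_local (A := A) _ fun p hp => ?_
    obtain ⟨B, _, φ, M', N', _, _, _, _, f, g, d', h1, h2, h3, h4, h5, h6, h7⟩ := h p hp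
    refine ⟨B, inferInstance, φ, M', inferInstance, inferInstance, f, h1, h2, h3, ?_⟩
    apply h7.1
    rw [h6, hy, map_zero, map_zero]
  · intro y
    change y ∈ Set.range d
    rw [← LinearMap.coe_range]
    refine mem_of_flat_local (LinearMap.range d) y fun p hp => ?_
    obtain ⟨B, _, φ, M', N', _, _, _, _, f, g, d', h1, h2, h3, h4, h5, h6, h7⟩ := h p hp
    refine ⟨B, inferInstance, φ, N', inferInstance, inferInstance, g, h1, h2, h4, ?_⟩
    obtain ⟨x, hx⟩ := h7.2 (g y)
    rw [← hx]
    have hx' : x ∈ Submodule.span B (Set.range f) := by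
      rw [span_range h3]
      trivial
    clear hx
    induction hx' using Submodule.span_induction with
    | mem x hx₁ =>
      obtain ⟨x, rfl⟩ := hx₁
      rw [h6]
      exact mem_ext g ⟨x, rfl⟩
    | zero =>
      rw [map_zero]
      exact Submodule.zero_mem _
    | add a b _ _ ha hb =>
      rw [map_add]
      exact Submodule.add_mem _ ha hb
    | smul r a _ ha =>
      rw [h5]
      exact Submodule.smul_mem _ r ha

end K815.FlLoc
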