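import Groth.Agent.StMod.K159.LocFree
import Groth.Agent.StMod.K906.Grpd

/-!
# Finite local freeness tested étale locally (helper815)

* `exists_opens`: affine opens `W → V` surjective near a point of an étale morphism;
* `isFinLocFree_of_et`: a quasi-coherent `E` on a category fibred in groupoids is finite locally free over `ξ` if near every
  point of `sch ξ` there is an étale arrow from an affine object all of whose affine restrictions have finitely presented flat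
  sections.
-/

set_option autoImplicit false
set_option linter.unusedVariables false
set_option linter.style.haveILetI false
set_option backward.isDefEq.respectTransparency false
set_option backward.isDefEq.respectTransparency.types false

universe v w u

open CategoryTheory CategoryTheory.Limits AlgebraicGeometry Opposite TopologicalSpace StMod

namespace K815.LFLoc

open Groth.Agent.CohqA.BaseChangeMod K908.AMod K908.QHom K908.QSec K908.Desc K908.Fam K907.Sec K159.LocFree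

theorem exists_opens {X X' : Scheme.{u}} (f : X' ⟶ X) (hf : IsOpenMap f) (x' : X') :
    ∃ (V : X.Opens) (W : X'.Opens), IsAffineOpen V ∧ IsAffineOpen W ∧ f x' ∈ V ∧ W ≤ f ⁻¹ᵁ V ∧
      ∀ v ∈ V, ∃ w ∈ W, f w = v := by
  obtain ⟨V₀, hV₀, hx, -⟩ := exists_isAffineOpen_mem_and_subset (x := f x') (U := ⊤) trivial
  obtain ⟨W₀, hW₀, hx', hle⟩ := exists_isAffineOpen_mem_and_subset (x := x') (U := f ⁻¹ᵁ V₀) hx
  let O : X.Opens := ⟨f '' W₀, hf _ W₀.2⟩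
  obtain ⟨g, hg1, hg2⟩ := hV₀.exists_basicOpen_le (V := O) ⟨f x', ⟨x', hx', rfl⟩⟩ hx
  have he : W₀ ≤ f ⁻¹ᵁ V₀ := hle
  have hb := Scheme.basicOpen_appLE f W₀ V₀ he g
  refine ⟨X.basicOpen g, X'.basicOpen (f.appLE V₀ W₀ he g), hV₀.basicOpen g, hW₀.basicOpen _, hg2, ?_, ?_⟩
  · rw [hb]
    exact inf_le_right
  · intro v hv
    obtain ⟨w, hw, rfl⟩ := hg1 hv
    refine ⟨w, ?_, rfl⟩
    rw [hb]
    exact ⟨hw, hv⟩

variable {S : Scheme.{u}} {𝒳 : BasedCategory.{v, w} (Over S)}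

/-- Finite local freeness tested étale locally. -/
theorem isFinLocFree_of_et (hX : FibCat.IsFibGrpd 𝒳.p) (E : QCoh 𝒳) (ξ : 𝒳.obj)
    (h : ∀ x : ↥(sch 𝒳 ξ), ∃ (z' : 𝒳.obj) (a : z' ⟶ ξ), Etale (bmap 𝒳 a) ∧ x ∈ Set.range (bmap 𝒳 a) ∧
      ∀ (ζ : 𝒳.obj) (_ : ζ ⟶ z'), IsAffine (sch 𝒳 ζ) →
        Module.FinitePresentation Γ(sch 𝒳 ζ, ⊤) Γ(E.obj.obj ζ, ⊤) ∧ Module.Flat Γ(sch 𝒳 ζ, ⊤) Γ(E.obj.obj ζ, ⊤)) :
    FlatMod.IsFinLocFree (E.obj.obj ξ) := by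
  haveI := hX
  let Pr : (sch 𝒳 ξ).Opens → Prop := fun V => ∃ (η : 𝒳.obj) (φ : η ⟶ ξ) (_ : IsOpenImmersion (bmap 𝒳 φ)),
    (bmap 𝒳 φ).opensRange = V ∧ ∃ (ζ : 𝒳.obj) (c : ζ ⟶ η), IsAffine (sch 𝒳 ζ) ∧ IsFCov c ∧
      Module.FinitePresentation Γ(sch 𝒳 ζ, ⊤) Γ(E.obj.obj ζ, ⊤) ∧ Module.Flat Γ(sch 𝒳 ζ, ⊤) Γ(E.obj.obj ζ, ⊤)
  rw [Groth.Agent.Desc.FinLocFreeSections.isFinLocFree_iff_of_cover (E.property.2 ξ) Pr (fun x => ?_)]
  · rintro V ⟨η, φ, hφ, hφ', ζ, c, hζ, hc, h1, h2⟩ hV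
    have hη : IsAffine (sch 𝒳 η) := K908.Fib.isAffine_of_opensRange φ (by rw [hφ']; exact hV)
    obtain ⟨h1, h2⟩ := fpFlat_of_isBC (ringMap_faithfullyFlat c hc) (isBC_resTop E c) h1 h2
    have hin : InOp φ V := K908.Ext.inOp_of_range (C := ASieve.all 𝒳) (ζ := ⟨η, hη⟩) φ hφ'
    have h3 : Function.Bijective ((bmap 𝒳 φ).appLE V ⊤ hin).hom :=
      K908.Ext.appLE_bijective (C := ASieve.all 𝒳) (ζ := ⟨η, hη⟩) φ hφ'
    have h4 : IsBC ((bmap 𝒳 φ).appLE V ⊤ hin).hom (secX E.obj φ V hin) :=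
      IsBC.of_bijective _ h3 _ (secX_bijective E φ hφ' hin) (fun r x => secX_smul E.obj φ V hin r x)
    exact fpFlat_of_isBC (faithfullyFlat_of_bijective h3) h4 h1 h2
  · obtain ⟨z', a, ha, ⟨x', rfl⟩, hz'⟩ := h x
    obtain ⟨V, W, hV, hW, hxV, hWV, hsurj⟩ := exists_opens (bmap 𝒳 a) (bmap 𝒳 a).isOpenMap x'
    obtain ⟨η, φ, hφ, hφ'⟩ := K908.Fib.exists_restr (𝒳 := 𝒳) ξ V
    obtain ⟨ζ, ψ, hψ, hψ'⟩ := K908.Fib.exists_restr (𝒳 := 𝒳) z' W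
    have hζ : IsAffine (sch 𝒳 ζ) := K908.Fib.isAffine_of_opensRange ψ (by rw [hψ']; exact hW)
    have hrange : Set.range (bmap 𝒳 (ψ ≫ a)) ⊆ Set.range (bmap 𝒳 φ) := by
      rintro _ ⟨y, rfl⟩
      have h1 : bmap 𝒳 ψ y ∈ W := by
        rw [← hψ']
        exact ⟨y, rfl⟩
      have h2 : bmap 𝒳 a (bmap 𝒳 ψ y) ∈ V := hWV h1
      rw [← hφ'] at h2
      rw [bmap_comp]
      exact h2
    let g : sch 𝒳 ζ ⟶ sch 𝒳 η := IsOpenImmersion.lift (bmap 𝒳 φ) (bmap 𝒳 (ψ ≫ a)) hrange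
    have hg : g ≫ bmap 𝒳 φ = bmap 𝒳 (ψ ≫ a) := IsOpenImmersion.lift_fac _ _ _
    obtain ⟨c, ⟨hc1, hc2⟩, -⟩ := K906.Grpd.existsUnique_hom_sch hX φ (ψ ≫ a) g hg
    refine ⟨V, ⟨η, φ, hφ, hφ', ζ, c, hζ, ⟨?_, ?_⟩, hz' ζ ψ hζ⟩, hV, hxV⟩
    · have h1 : Etale (bmap 𝒳 (ψ ≫ a)) := by
        rw [bmap_comp]
        infer_instance
      rw [← hg] at h1
      have h2 : Etale g := MorphismProperty.of_postcomp (W := @Etale) (W' := @Etale) g (bmap 𝒳 φ) inferInstance h1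
      rw [hc1]
      infer_instance
    · rw [hc1]
      refine ⟨fun y => ?_⟩
      have h1 : bmap 𝒳 φ y ∈ V := by
        rw [← hφ']
        exact ⟨y, rfl⟩
      obtain ⟨w, hw, hwv⟩ := hsurj _ h1
      rw [← hψ'] at hw
      obtain ⟨y', rfl⟩ := hw
      refine ⟨y', ?_⟩
      apply (bmap 𝒳 φ).injective
      change (g ≫ bmap 𝒳 φ) y' = bmap 𝒳 φ y
      rw [hg, bmap_comp, ← hwv]
      rfl

end K815.LFLoc
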