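import Groth.Agent.StMod.K815.Loc
import Groth.Agent.StMod.K907.L1
import Groth.Agent.StMod.K908.Cmp

/-!
# The pushforward of a bundle with a good family (helper815)

`P : PushEv π F.obj G.obj` a pushforward of `F` along `π`.
* `bs_push`: if `P.ev m` is bijective, functions on `m` are the functions on `𝒳_m` and `F` has a good family over `m`, then
  `Γ(G_m)` has a basis mapping to it; `bs_over`: the same over arrows `z ⟶ m`;
* `counit P : comap π G ⟶ F`, `counit_bijective`.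
-/

set_option autoImplicit false
set_option linter.unusedVariables false
set_option linter.style.haveILetI false
set_option backward.isDefEq.respectTransparency false
set_option backward.isDefEq.respectTransparency.types false

universe w' v' w v u

open CategoryTheory CategoryTheory.Limits AlgebraicGeometry Opposite StMod AlgSt

namespace K815.Push

open Groth.Agent.CohqA.BaseChangeMod K815.BasisAlg K815.Loc K908.Push K907.Sec K907.L1 K908.Comap

variable {S : Scheme.{u}} {𝒳 : BasedCategory.{v, w} (Over S)} {𝒴 : BasedCategory.{v', w'} (Over S)}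
  {π : 𝒳 ⥤ᵇ 𝒴} {F : QCoh 𝒳} {G : QCoh 𝒴}

/-- Evaluation of sections of the pushforward at a pair. -/
noncomputable def evAt (P : PushEv π F.obj G.obj) (m : 𝒴.obj) (hm : IsAffine (sch 𝒴 m)) (ξ : 𝒳.obj) (α : π.obj ξ ⟶ m) :
    Γ(G.obj.obj m, ⊤) →+ Γ(F.obj.obj ξ, ⊤) where
  toFun y := (P.ev m hm y).1 ξ α
  map_zero' := by rw [map_zero]; rfl
  map_add' a b := by rw [map_add]; rfl

theorem evAt_smul (P : PushEv π F.obj G.obj) (m : 𝒴.obj) (hm : IsAffine (sch 𝒴 m)) (ξ : 𝒳.obj) (α : π.obj ξ ⟶ m)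
    (r : Γ(sch 𝒴 m, ⊤)) (y : Γ(G.obj.obj m, ⊤)) :
    evAt P m hm ξ α (r • y) = (baseOver π ξ α).left.appTop.hom r • evAt P m hm ξ α y := by
  change (P.ev m hm (r • y)).1 ξ α = _
  rw [map_smul]
  rfl

variable {I : Type u}

/-- The basis of the sections of the pushforward over an object with a good family. -/
theorem bs_push (h𝒳 : FibCat.IsFibGrpd 𝒳.p) [Finite I] (P : PushEv π F.obj G.obj) {m : 𝒴.obj}
    (hm : IsAffine (sch 𝒴 m)) (hb : Function.Bijective (P.ev m hm)) (hu : Function.Bijective (unitSect π m))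
    {s : I → Mod.RelSect π F.obj m} (hs : GoodFam π F s) :
    ∃ g : I → Γ(G.obj.obj m, ⊤), (∀ i, P.ev m hm (g i) = s i) ∧ Bs Γ(sch 𝒴 m, ⊤) g := by
  haveI := h𝒳
  choose g hg using fun i => hb.2 (s i)
  have hgs : ∀ (ξ : 𝒳.obj) (α : π.obj ξ ⟶ m), (fun i => evAt P m hm ξ α (g i)) = fun i => (s i).1 ξ α := by
    intro ξ α
    funext i
    change (P.ev m hm (g i)).1 ξ α = _
    rw [hg]
  have hcomb : ∀ (ξ : 𝒳.obj) (α : π.obj ξ ⟶ m) (c : I →₀ Γ(sch 𝒴 m, ⊤)),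
      Finsupp.linearCombination Γ(sch 𝒳 ξ, ⊤) (fun i => (s i).1 ξ α) (mr (baseOver π ξ α).left.appTop.hom I c) =
        (P.ev m hm (Finsupp.linearCombination Γ(sch 𝒴 m, ⊤) g c)).1 ξ α := by
    intro ξ α c
    have h1 := linComb_mr (f := evAt P m hm ξ α) (evAt_smul P m hm ξ α) g c
    rw [hgs] at h1
    exact h1
  refine ⟨g, hg, ?_, ?_⟩
  · rw [injective_iff_map_eq_zero]
    intro c hc
    ext i
    apply hu.1
    rw [Finsupp.coe_zero, Pi.zero_apply, map_zero]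
    refine K908.QHom.relSect_ext (C := K908.AMod.ASieve.all 𝒳) K908.Fam.zloc_all π (OQ 𝒳) m (fun ζ α => ?_)
    have h1 := hcomb ζ.obj α c
    rw [hc, map_zero] at h1
    have h2 : mr (baseOver π ζ.obj α).left.appTop.hom I c = 0 := (hs ζ.obj α ζ.property).1 (h1.trans (map_zero _).symm)
    exact DFunLike.congr_fun h2 i
  · intro y
    have hex : ∀ (ζ : (K908.AMod.ASieve.all 𝒳).cat.obj) (α : π.obj ζ.obj ⟶ m), ∃ a : I →₀ Γ(sch 𝒳 ζ.obj, ⊤),
        Finsupp.linearCombination Γ(sch 𝒳 ζ.obj, ⊤) (fun i => (s i).1 ζ.obj α) a = (P.ev m hm y).1 ζ.obj α :=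
      fun ζ α => (hs ζ.obj α ζ.property).2 _
    choose a ha using hex
    have hcomp : ∀ ⦃ζ' ζ : (K908.AMod.ASieve.all 𝒳).cat.obj⦄ (φ : ζ' ⟶ ζ) (α : π.obj ζ.obj ⟶ m),
        mr (bmap 𝒳 φ.hom).appTop.hom I (a ζ α) = a ζ' (π.map φ.hom ≫ α) := by
      intro ζ' ζ φ α
      apply (hs ζ'.obj (π.map φ.hom ≫ α) ζ'.property).1
      rw [ha]
      have h1 := linComb_mr (φ := (bmap 𝒳 φ.hom).appTop.hom) (f := resTop F.obj φ.hom)
        (fun r x => resTop_smul F.obj φ.hom r x) (fun i => (s i).1 ζ.obj α) (a ζ α)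
      have h2 : (fun i => resTop F.obj φ.hom ((s i).1 ζ.obj α)) = fun i => (s i).1 ζ'.obj (π.map φ.hom ≫ α) := by
        funext i
        exact (s i).2 φ.hom α
      rw [h2, ha] at h1
      refine h1.trans ?_
      exact (P.ev m hm y).2 φ.hom α
    have hr : ∀ i, ∃ r : Γ(sch 𝒴 m, ⊤), ∀ (ζ : (K908.AMod.ASieve.all 𝒳).cat.obj) (α : π.obj ζ.obj ⟶ m),
        (baseOver π ζ.obj α).left.appTop r = a ζ α i := by
      intro i
      obtain ⟨t, ht⟩ := K908.QHom.exists_relSect (C := K908.AMod.ASieve.all 𝒳) K908.Fam.zloc_all π (OQ 𝒳) m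
        (fun ζ α => a ζ α i) (fun ζ' ζ φ α => DFunLike.congr_fun (hcomp φ α) i)
      obtain ⟨r, hr⟩ := hu.2 t
      refine ⟨r, fun ζ α => ?_⟩
      rw [← ht ζ α, ← hr]
      rfl
    choose c hc using hr
    refine ⟨Finsupp.equivFunOnFinite.symm c, ?_⟩
    apply hb.1
    refine K908.QHom.relSect_ext (C := K908.AMod.ASieve.all 𝒳) K908.Fam.zloc_all π F m (fun ζ α => ?_)
    rw [← hcomb, ← ha]
    congr 1
    ext i
    exact hc i ζ α

/-- The basis over an object with an arrow to an object with a good family. -/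
theorem bs_over (P : PushEv π F.obj G.obj) {m z : 𝒴.obj} (hm : IsAffine (sch 𝒴 m)) (hz : IsAffine (sch 𝒴 z))
    {s : I → Mod.RelSect π F.obj m} {g : I → Γ(G.obj.obj m, ⊤)} (hg : ∀ i, P.ev m hm (g i) = s i)
    (hbs : Bs Γ(sch 𝒴 m, ⊤) g) (b : z ⟶ m) : Bs Γ(sch 𝒴 z, ⊤) (fun i => G.obj.mapTop b (g i)) ∧
      ∀ i, P.ev z hz (G.obj.mapTop b (g i)) = relRes π F.obj b (s i) := by
  haveI := hm
  haveI := hz
  refine ⟨Bs.map (isBC_resTop G b) hbs, fun i => ?_⟩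
  rw [P.comm b hz hm, hg]

section Counit

/-- The counit on an affine object. -/
noncomputable def cu (P : PushEv π F.obj G.obj) (ζ : 𝒳.obj) (hζ : IsAffine (sch 𝒳 ζ)) :
    Γ((Mod.comap π G.obj).obj ζ, ⊤) →+ Γ(F.obj.obj ζ, ⊤) :=
  (evAt P (π.obj ζ) (K908.Cmp.isAffine_obj π ζ hζ) ζ (𝟙 _)).comp (ct π G.obj ζ).symm.toAddMonoidHom

theorem baseOver_id_left (ζ : 𝒳.obj) :
    (baseOver π ζ (𝟙 (π.obj ζ))).left = (eqToHom (sch_obj_eq π ζ).symm : sch 𝒳 ζ ⟶ sch 𝒴 (π.obj ζ)) := by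
  unfold baseOver
  rw [CategoryTheory.Functor.map_id, Category.comp_id]
  exact Over.eqToHom_left _

theorem cu_smul (P : PushEv π F.obj G.obj) (ζ : 𝒳.obj) (hζ : IsAffine (sch 𝒳 ζ)) (r : Γ(sch 𝒳 ζ, ⊤))
    (y : Γ((Mod.comap π G.obj).obj ζ, ⊤)) : cu P ζ hζ (r • y) = r • cu P ζ hζ y := by
  obtain ⟨r', hr'⟩ := (appTop_bijective (f := π) ζ).2 r
  obtain ⟨x, rfl⟩ := (ct π G.obj ζ).surjective y
  have h1 : r • ct π G.obj ζ x = ct π G.obj ζ (r' • x) := by
    rw [ct_smul]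
    congr 1
    exact hr'.symm
  rw [h1]
  change evAt P _ _ ζ (𝟙 _) ((ct π G.obj ζ).symm (ct π G.obj ζ (r' • x))) =
    r • evAt P _ _ ζ (𝟙 _) ((ct π G.obj ζ).symm (ct π G.obj ζ x))
  rw [AddEquiv.symm_apply_apply, AddEquiv.symm_apply_apply, evAt_smul, baseOver_id_left]
  congr 1

theorem cu_mapTop (P : PushEv π F.obj G.obj) {ζ' ζ : 𝒳.obj} (hζ' : IsAffine (sch 𝒳 ζ')) (hζ : IsAffine (sch 𝒳 ζ))
    (φ : ζ' ⟶ ζ) (y : Γ((Mod.comap π G.obj).obj ζ, ⊤)) :
    cu P ζ' hζ' ((Mod.comap π G.obj).mapTop φ y) = F.obj.mapTop φ (cu P ζ hζ y) := by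
  change (P.ev (π.obj ζ') _ ((ct π G.obj ζ').symm ((Mod.comap π G.obj).mapTop φ y))).1 ζ' (𝟙 _) =
    F.obj.mapTop φ ((P.ev (π.obj ζ) _ ((ct π G.obj ζ).symm y)).1 ζ (𝟙 _))
  rw [ct_symm_mapTop, P.comm (π.map φ) (K908.Cmp.isAffine_obj π ζ' hζ') (K908.Cmp.isAffine_obj π ζ hζ)]
  refine Eq.trans ?_ ((P.ev (π.obj ζ) _ ((ct π G.obj ζ).symm y)).2 φ (𝟙 _)).symm
  rw [relRes_val, Category.id_comp, Category.comp_id]

/-- The counit `π^* G ⟶ F`. -/
noncomputable def counit (h𝒳 : FibCat.IsFibGrpd 𝒳.p) (P : PushEv π F.obj G.obj) :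
    ((comapQ π).obj G).obj ⟶ F.obj :=
  haveI := h𝒳
  K908.QHom.homMk (C := K908.AMod.ASieve.all 𝒳) K908.Fam.zloc_all
    { app := fun ζ => { toFun := fun y => cu P ζ.obj ζ.property y
                        map_add' := fun a b => map_add _ a b
                        map_smul' := fun r y => cu_smul P ζ.obj ζ.property r y }
      comm := fun {ζ' ζ} φ x => cu_mapTop P ζ'.property ζ.property φ.hom x }

theorem counit_app (h𝒳 : FibCat.IsFibGrpd 𝒳.p) (P : PushEv π F.obj G.obj) (ζ : 𝒳.obj) (hζ : IsAffine (sch 𝒳 ζ))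
    (y : Γ((Mod.comap π G.obj).obj ζ, ⊤)) : ((counit h𝒳 P).app ζ).app ⊤ y = cu P ζ hζ y := by
  haveI := h𝒳
  exact K908.QHom.homMk_app (C := K908.AMod.ASieve.all 𝒳) K908.Fam.zloc_all (F := (comapQ π).obj G) (G := F) _ ⟨ζ, hζ⟩ y

theorem bijective_of_bs {A B : Type u} [CommRing A] [CommRing B] {M N : Type u} [AddCommGroup M] [Module A M]
    [AddCommGroup N] [Module B N] {φ : A →+* B} (hφ : Function.Bijective φ) (f : M →+ N)
    (hf : ∀ (r : A) (x : M), f (r • x) = φ r • f x) {s : I → M} (h : Bs A s) (h' : Bs B (fun i => f (s i))) :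
    Function.Bijective f := by
  have hm : Function.Bijective (mr φ I) := by
    refine ⟨mr_injective hφ.1, fun y => ?_⟩
    obtain ⟨x, hx⟩ := Finsupp.mapRange_surjective φ (map_zero φ) hφ.2 y
    exact ⟨x, hx⟩
  have h1 : Function.Bijective (fun x : I →₀ A => f (Finsupp.linearCombination A s x)) := by
    have h2 : (fun x : I →₀ A => f (Finsupp.linearCombination A s x)) =
        (fun x => Finsupp.linearCombination B (fun i => f (s i)) (mr φ I x)) := by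
      funext x
      exact (linComb_mr hf s x).symm
    rw [h2]
    exact h'.comp hm
  exact (Function.Bijective.of_comp_iff f h).1 h1

theorem cu_bijective (P : PushEv π F.obj G.obj) {m : 𝒴.obj} (hm : IsAffine (sch 𝒴 m))
    {s : I → Mod.RelSect π F.obj m} (hs : GoodFam π F s) {g : I → Γ(G.obj.obj m, ⊤)} (hg : ∀ i, P.ev m hm (g i) = s i)
    (hbs : Bs Γ(sch 𝒴 m, ⊤) g) (ζ : 𝒳.obj) (hζ : IsAffine (sch 𝒳 ζ)) (b : π.obj ζ ⟶ m) :
    Function.Bijective (cu P ζ hζ) := by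
  have hz := K908.Cmp.isAffine_obj π ζ hζ
  obtain ⟨h1, h2⟩ := bs_over P hm hz hg hbs b
  have hb : Function.Bijective (baseOver π ζ (𝟙 (π.obj ζ))).left.appTop.hom := by
    rw [baseOver_id_left]
    exact appTop_bijective (f := π) ζ
  have h3 : Function.Bijective (evAt P (π.obj ζ) hz ζ (𝟙 _)) := by
    refine bijective_of_bs hb _ (evAt_smul P (π.obj ζ) hz ζ (𝟙 _)) h1 ?_
    have e : (fun i => evAt P (π.obj ζ) hz ζ (𝟙 _) (G.obj.mapTop b (g i))) = fun i => (s i).1 ζ b := by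
      funext i
      change (P.ev (π.obj ζ) hz (G.obj.mapTop b (g i))).1 ζ (𝟙 _) = _
      rw [h2, relRes_val, Category.id_comp]
    rw [e]
    exact hs ζ b hζ
  exact h3.comp (ct π G.obj ζ).symm.bijective

end Counit

end K815.Push
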