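import Groth.Agent.StMod.K815.Good
import Groth.Agent.StMod.K815.EtAtlas
import Groth.Agent.StMod.K815.FlLoc
import Groth.Agent.StMod.K815.LFLoc
import Groth.Agent.StMod.K815.Push
import Groth.Agent.StMod.K906.PushFl
import Groth.Agent.StMod.K906.FBC
import Groth.Agent.StMod.K563.ClosedLN

/-!
# Descent of vector bundles to good moduli spaces (helper815)

* `exists_pushforward`: the pushforward of a quasi-coherent module along a quasi-compact quasi-separated `π`, with evaluation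
  bijective on affine étale objects;
* `exists_descent`: if étale locally on `M` the bundle `F` has a basis of relative sections, it descends to `M`.
-/

set_option autoImplicit false
set_option linter.unusedVariables false
set_option linter.style.haveILetI false
set_option backward.isDefEq.respectTransparency false
set_option backward.isDefEq.respectTransparency.types false

universe w' v' w v u

open CategoryTheory CategoryTheory.Limits AlgebraicGeometry Opposite StMod AlgSt AlgSp TopologicalSpace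

namespace K815.Descent

open Groth.Agent.CohqA.BaseChangeMod K815.BasisAlg K815.Loc K815.Good K815.Push K815.EtAtlas K907 K907.Sec K907.L1
  K907.Van K906

variable {S : Scheme.{u}} {𝒳 : AlgSt.Cat S} (h𝒳 : IsAlgStack Scheme.fppfPrecoverage 𝒳)
  (M : Space S) (π : 𝒳 ⥤ᵇ ofSp M.obj)
  (hqc : IsQuasiCompactMor Scheme.fppfPrecoverage π) (hqs : IsQuasiSeparatedMor π)

include h𝒳 hqc hqs in
/-- The pushforward, with evaluation bijective on the affine étale objects. -/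
theorem exists_pushforward (F : QCoh 𝒳) : ∃ (G : QCoh (ofSp M.obj)) (P : PushEv π F.obj G.obj),
    ∀ (E : EtOver M.obj) (hE : IsAffine (sch (ofSp M.obj) (etaOf E))), Function.Bijective (P.ev (etaOf E) hE) := by
  obtain ⟨G, P, hP⟩ := PushFl.exists_pushEv π FibTerm.isFibGrpd_ofSp (etAtlas M.property) F
    (fun {z' z} g hz' hz hg => by
      obtain ⟨Pr⟩ := K906.nonempty_pres h𝒳.isStack.1 FibTerm.isFibGrpd_ofSp K744.AlgOver.isAlgStack_overCat hqc hqs hz
      exact FBC.relBC_of_pres h𝒳.isStack.1 FibTerm.isFibGrpd_ofSp g hz hz' hg Pr F)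
  refine ⟨G, P, fun E hE => hP (etaOf E) hE ⟨E, hE⟩ (𝟙 _) ?_⟩
  rw [bmap_id]
  infer_instance

/-- Lifting of an étale neighbourhood of an object of `M` to `𝒳`. -/
theorem exists_lift_nhd {𝒳 : BasedCategory.{v, w} (Over S)} (h𝒳 : FibCat.IsFibGrpd 𝒳.p) {M : Sp S} (π : 𝒳 ⥤ᵇ ofSp M)
    (ζ : 𝒳.obj) (t : ↥(sch 𝒳 ζ)) {z' : (ofSp M).obj} (a : z' ⟶ π.obj ζ) (ha : Etale a.hom.left)
    (hz' : IsAffine z'.base.left) (t' : ↥z'.base.left)
    (ht' : a.hom.left t' = (baseOver π ζ (𝟙 (π.obj ζ))).left t) :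
    ∃ (y : 𝒳.obj) (φ : y ⟶ ζ) (i : π.obj y ⟶ z') (t'' : ↥(sch 𝒳 y)), IsAffine (sch 𝒳 y) ∧ Etale (bmap 𝒳 φ) ∧
      bmap 𝒳 φ t'' = t := by
  obtain ⟨y, φ, i, hi, hc⟩ := K907.Disj.exists_lift_fun h𝒳 FibTerm.isFibGrpd_ofSp π (x := ζ) a
  have hiso' : IsIso (baseOver π y i).left := K907.Disj.baseOver_isIso π i
  have hm'' : IsAffine ((ofSp M).p.obj z').left := hz'
  have haff : IsAffine (sch 𝒳 y) := IsAffine.of_isIso (baseOver π y i).left
  have h1 : bmap 𝒳 φ ≫ (baseOver π ζ (𝟙 (π.obj ζ))).left = (baseOver π y i).left ≫ a.hom.left := by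
    rw [bmap_comp_baseOver_left, Category.comp_id, ← hc, baseOver_comp]
    rfl
  have hiso₀ : IsIso (baseOver π ζ (𝟙 (π.obj ζ))).left := K907.Disj.baseOver_isIso π (𝟙 (π.obj ζ))
  have hEt : Etale (bmap 𝒳 φ) := by
    have h2 : Etale (bmap 𝒳 φ ≫ (baseOver π ζ (𝟙 (π.obj ζ))).left) := by
      rw [h1]
      infer_instance
    exact (MorphismProperty.cancel_right_of_respectsIso @Etale _ _).1 h2
  refine ⟨y, φ, i, (inv (baseOver π y i).left) t', haff, hEt, ?_⟩
  have hinj : Function.Injective (baseOver π ζ (𝟙 (π.obj ζ))).left :=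
    (Scheme.homeoOfIso (asIso (baseOver π ζ (𝟙 (π.obj ζ))).left)).injective
  apply hinj
  have h3 : (bmap 𝒳 φ ≫ (baseOver π ζ (𝟙 (π.obj ζ))).left) ((inv (baseOver π y i).left) t') = a.hom.left t' := by
    rw [h1]
    change a.hom.left ((inv (baseOver π y i).left ≫ (baseOver π y i).left) t') = _
    rw [IsIso.inv_hom_id]
    rfl
  exact h3.trans ht'

/-- Bijectivity of the counit is étale local. -/
theorem cu_bijective_of_local {𝒳 : BasedCategory.{v, w} (Over S)} {𝒴 : BasedCategory.{v', w'} (Over S)} {π : 𝒳 ⥤ᵇ 𝒴}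
    {F : QCoh 𝒳} {G : QCoh 𝒴} (P : PushEv π F.obj G.obj) (ζ : 𝒳.obj) (hζ : IsAffine (sch 𝒳 ζ))
    (h : ∀ t : ↥(sch 𝒳 ζ), ∃ (y : 𝒳.obj) (φ : y ⟶ ζ) (t' : ↥(sch 𝒳 y)) (hy : IsAffine (sch 𝒳 y)), Etale (bmap 𝒳 φ) ∧
      bmap 𝒳 φ t' = t ∧ Function.Bijective (cu P y hy)) : Function.Bijective (cu P ζ hζ) := by
  let d : Γ(((comapQ π).obj G).obj.obj ζ, ⊤) →ₗ[Γ(sch 𝒳 ζ, ⊤)] Γ(F.obj.obj ζ, ⊤) :=
    { toFun := fun y => cu P ζ hζ y
      map_add' := fun a b => map_add _ a b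
      map_smul' := fun r y => cu_smul P ζ hζ r y }
  have hd : Function.Bijective d := by
    refine FlLoc.bijective_of_flat_local d fun p hp => ?_
    obtain ⟨t, ht⟩ := (sp_bijective (X := sch 𝒳 ζ)).2 ⟨p, hp.isPrime⟩
    obtain ⟨y, φ, t', hy, hEt, ht', hb⟩ := h t
    have hle : p ≤ Ideal.comap (ringMap φ) (sp t').asIdeal := by
      intro r hr
      have h4 : r ∈ (sp (bmap 𝒳 φ t')).asIdeal := by
        rw [ht', ht]
        exact hr
      exact (mem_sp_comp (bmap 𝒳 φ) t' r).1 h4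
    have hfl : (ringMap φ).Flat := ringMap_flat φ inferInstance
    have hb1 : IsBC (ringMap φ) (resTop ((comapQ π).obj G).obj φ) := isBC_resTop ((comapQ π).obj G) φ
    have hb2 : IsBC (ringMap φ) (resTop F.obj φ) := isBC_resTop F φ
    have hc : ∀ x, cu P y hy (resTop ((comapQ π).obj G).obj φ x) = resTop F.obj φ (d x) := fun x => cu_mapTop P hy hζ φ x
    exact ⟨Γ(sch 𝒳 y, ⊤), inferInstance, ringMap φ, Γ(((comapQ π).obj G).obj.obj y, ⊤), Γ(F.obj.obj y, ⊤),
      inferInstance, inferInstance, inferInstance, inferInstance, resTop ((comapQ π).obj G).obj φ, resTop F.obj φ,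
      cu P y hy, hfl, ⟨(sp t').asIdeal, (sp t').isPrime.ne_top, hle⟩, hb1, hb2, fun r x => cu_smul P y hy r x, hc, hb⟩
  exact hd

include h𝒳 hqc hqs in
/-- A bundle which has étale locally a basis of relative sections descends. -/
theorem exists_descent (hu : UnitIsIso π) (F : QCoh 𝒳)
    (hcov : ∀ (z : (ofSp M.obj).obj) (t : ↥z.base.left), ∃ (E : EtOver M.obj) (z' : (ofSp M.obj).obj) (a : z' ⟶ z)
      (b : z' ⟶ etaOf E), IsAffine E.obj.left.left ∧ Gd π F E ∧ IsAffine z'.base.left ∧ Etale a.hom.left ∧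
        t ∈ Set.range a.hom.left) :
    ∃ G : QCoh (ofSp M.obj), G.obj.IsLocFree ∧ G.obj.IsFinType ∧ Nonempty ((comapQ π).obj G ≅ F) := by
  obtain ⟨G, P, hP⟩ := exists_pushforward h𝒳 M π hqc hqs F
  have hfree : ∀ (ξ : (ofSp M.obj).obj), FlatMod.IsFinLocFree (G.obj.obj ξ) := by
    intro ξ
    refine LFLoc.isFinLocFree_of_et FibTerm.isFibGrpd_ofSp G ξ fun x => ?_
    obtain ⟨E, z', a, b, hE, ⟨n, s, hs⟩, hz', ha, hx⟩ := hcov ξ x
    refine ⟨z', a, ha, hx, fun ζ c hζ => ?_⟩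
    have hE' : IsAffine (sch (ofSp M.obj) (etaOf E)) := hE
    obtain ⟨g, hg, hbs⟩ := bs_push h𝒳.isStack.1 P hE' (hP E hE') (hu E) hs
    obtain ⟨h1, -⟩ := bs_over P hE' hζ hg hbs (c ≫ b)
    let e := LinearEquiv.ofBijective _ h1
    exact ⟨Module.FinitePresentation.of_equiv e, Module.Flat.of_linearEquiv e.symm⟩
  have hcu : ∀ (ζ : 𝒳.obj) (hζ : IsAffine (sch 𝒳 ζ)), Function.Bijective (cu P ζ hζ) := by
    intro ζ hζ
    refine cu_bijective_of_local P ζ hζ fun t => ?_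
    obtain ⟨E, z', a, b, hE, ⟨n, s, hs⟩, hz', ha, ⟨t', ht'⟩⟩ := hcov (π.obj ζ) ((baseOver π ζ (𝟙 (π.obj ζ))).left t)
    obtain ⟨y, φ, i, t'', hy, hEt, ht''⟩ := exists_lift_nhd h𝒳.isStack.1 π ζ t a ha hz' t' ht'
    have hE' : IsAffine (sch (ofSp M.obj) (etaOf E)) := hE
    obtain ⟨g, hg, hbs⟩ := bs_push h𝒳.isStack.1 P hE' (hP E hE') (hu E) hs
    exact ⟨y, φ, t'', hy, hEt, ht'', cu_bijective P hE' hs hg hbs y hy (i ≫ b)⟩
  haveI hF := h𝒳.isStack.1
  obtain ⟨v, hv1, hv2⟩ := K908.Dense.isIso_of_bijective (C := K908.AMod.ASieve.all 𝒳) (F := (comapQ π).obj G) (G := F)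
    (fun ξ hξ => ⟨⟨ξ, hξ⟩, 𝟙 ξ, by rw [bmap_id]; infer_instance, by rw [bmap_id]; infer_instance⟩)
    (counit h𝒳.isStack.1 P) (fun ζ => by
      have e : (fun x : Γ(((comapQ π).obj G).obj.obj ζ.obj, ⊤) => ((counit h𝒳.isStack.1 P).app ζ.obj).app ⊤ x) =
          cu P ζ.obj ζ.property := by
        funext x
        exact counit_app h𝒳.isStack.1 P ζ.obj ζ.property x
      rw [e]
      exact hcu ζ.obj ζ.property)
  refine ⟨G, fun ξ => K799.LFree.isLocallyFree_of (hfree ξ), fun ξ => K799.LFree.isFT_of (hfree ξ), ⟨?_⟩⟩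
  exact { hom := ObjectProperty.homMk (counit h𝒳.isStack.1 P)
          inv := ObjectProperty.homMk v
          hom_inv_id := ObjectProperty.hom_ext _ hv1
          inv_hom_id := ObjectProperty.hom_ext _ hv2 }

end K815.Descent
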