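import Groth.Agent.StMod.K907.HasCov
import Groth.Agent.StMod.K908.ToBase
import Groth.Agent.ThetaS.K943.SpVal
import Groth.Agent.AlgSt.K734.FibFp
import Groth.Agent.AlgSp.K636.QcqsOver
import Groth.Agent.AlgSp.K606.Boot
import Groth.Agent.AlgSp.K595.DiagRel
import Groth.Agent.S10350
import Groth.Agent.S12763
import Groth.Agent.AlgSt.K748.Lift
import Groth.Prelude.Def_AlgSt5

/-!
# Points of a stack with the same image in a good moduli space

* `isClosed_ofPt_of_section`: a section over `Spec k` of a decent algebraic space over `Spec k` (everything over a base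
  scheme `S`) defines a closed point;
* `eq_of_ofPt_eq`: sections are determined by their points;
* `comp_eq_iff`: two `k`-points of a stack have the same image in its good moduli space iff the closures of the points they
  define on the base change to `k` meet.
-/

set_option autoImplicit false
set_option linter.unusedVariables false
set_option linter.style.haveILetI false
set_option backward.isDefEq.respectTransparency false
set_option backward.isDefEq.respectTransparency.types false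

universe u₂ v₂ w' v' w v u

open CategoryTheory CategoryTheory.Limits AlgebraicGeometry Opposite Topology

namespace K815.SamePt

section Space

open AlgSp K618.Sch K618.FieldFib K618.ClosedPt

variable {S : Scheme.{u}}

/-- A section over `Spec k` of a decent space over `Spec k` defines a closed point. -/
theorem isClosed_ofPt_of_section {X : Sp S} (hX : IsAlgSpace X) (hd : IsDecent X) {k : Type u} [Field k]
    {t : Spec (CommRingCat.of k) ⟶ S} (q : X ⟶ (yon S).obj (Over.mk t)) (a : (yon S).obj (Over.mk t) ⟶ X)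
    (ha : a ≫ q = 𝟙 _) (t₀ : ↥(Spec (CommRingCat.of k))) :
    IsClosed ({Points.ofPt a t₀} : Set (Points X)) := by
  have hiso : IsIso ((Spec (CommRingCat.of k)).fromSpecResidueField t₀) :=
    K618.Sch.isIso_of_mono_to_field (k := k) _
  let p : FieldPt X := FieldPt.ofPt a t₀
  let j : p.pt ⟶ Over.mk t := Over.homMk ((Spec (CommRingCat.of k)).fromSpecResidueField t₀) rfl
  have hp : p.toHom = (yon S).map j ≫ a := FieldPt.toHom_ofPt a t₀
  obtain ⟨U, b, hb, hbs⟩ := hX.atlas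
  change IsClosed ({Points.mk p} : Set (Points X))
  rw [← (K609.Points.isQuotientMap_ofPt hb hbs).isClosed_preimage]
  refine isClosed_of_finite_affine _ (fun v hv => ?_) (fun W hW => ?_)
  · obtain ⟨E, e, i, sq, hE⟩ := exists_fibre_scheme p (hX.representable_from_yon _) b
    have he : Etale e.left := hb.2 _ _ e sq.flip
    obtain ⟨w, rfl⟩ := (hE v).1 hv
    obtain ⟨β, hβ⟩ := (yon S).map_surjective (b ≫ q)
    have hβ2 : i ≫ β = e ≫ j := by
      apply (yon S).map_injective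
      rw [Functor.map_comp, hβ, ← Category.assoc, ← sq.w, hp, Category.assoc, Category.assoc, ha, Category.comp_id,
        Functor.map_comp]
    let c := E.left.fromSpecResidueField w ≫ i.left
    have h1 : LocallyQuasiFinite e.left := locallyQuasiFinite_of_etale e.left
    let d : Spec (E.left.residueField w) ⟶ Spec (CommRingCat.of p.K) := E.left.fromSpecResidueField w ≫ e.left
    have h2 : LocallyQuasiFinite d := inferInstanceAs (LocallyQuasiFinite (E.left.fromSpecResidueField w ≫ e.left))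
    have h3 : IsFinite d := IsFinite.of_locallyQuasiFinite d
    have h4 : c ≫ β.left = d ≫ (Spec (CommRingCat.of k)).fromSpecResidueField t₀ := by
      change (E.left.fromSpecResidueField w ≫ i.left) ≫ β.left =
        (E.left.fromSpecResidueField w ≫ e.left) ≫ j.left
      rw [Category.assoc, Category.assoc, ← Over.comp_left, ← Over.comp_left, hβ2]
    have h5 : IsIntegralHom (c ≫ β.left) := by
      rw [h4]
      infer_instance
    have h6 := isClosed_singleton_of_integral (κ := E.left.residueField w) c β.left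
      (IsLocalRing.closedPoint (E.left.residueField w))
    have h7 : c (IsLocalRing.closedPoint (E.left.residueField w)) = i.left w := by
      change (E.left.fromSpecResidueField w ≫ i.left) _ = _
      rw [Scheme.Hom.comp_apply, Scheme.fromSpecResidueField_apply]
    have h8 : IsClosed ({i.left w} : Set ↥U.left) := by
      rw [← h7]
      exact h6
    exact h8
  · obtain ⟨q, hq, -, hqc⟩ := hd (Points.mk p)
    rw [← hq]
    exact finite_fibre_inter q hqc b hb W hW

/-- Two sections over `Spec k` with the same class are equal. -/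
theorem eq_of_ofPt_eq {X : Sp S} (hX : IsAlgSpace X) {k : Type u} [Field k]
    {t : Spec (CommRingCat.of k) ⟶ S} (q : X ⟶ (yon S).obj (Over.mk t)) (a₁ a₂ : (yon S).obj (Over.mk t) ⟶ X)
    (h₁ : a₁ ≫ q = 𝟙 _) (h₂ : a₂ ≫ q = 𝟙 _) (t₀ : ↥(Spec (CommRingCat.of k)))
    (h : Points.ofPt a₁ t₀ = Points.ofPt a₂ t₀) : a₁ = a₂ := by
  have hiso : IsIso ((Spec (CommRingCat.of k)).fromSpecResidueField t₀) :=
    K618.Sch.isIso_of_mono_to_field (k := k) _
  let p₁ := AlgSp.FieldPt.ofPt a₁ t₀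
  let p₂ := AlgSp.FieldPt.ofPt a₂ t₀
  let j : p₁.pt ⟶ Over.mk t := Over.homMk ((Spec (CommRingCat.of k)).fromSpecResidueField t₀) rfl
  have hj : IsIso j := by
    have : IsIso ((Over.forget _).map j) := hiso
    exact isIso_of_reflects_iso _ (Over.forget _)
  have hj' : IsIso ((AlgSp.yon S).map j) := inferInstance
  have hp₁ : p₁.toHom = (yon S).map j ≫ a₁ := FieldPt.toHom_ofPt a₁ t₀
  have hp₂ : p₂.toHom = (yon S).map j ≫ a₂ := FieldPt.toHom_ofPt a₂ t₀
  have hs : IsSplitMono a₁ := ⟨⟨q, h₁⟩⟩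
  have hm : Mono p₁.toHom := by
    rw [hp₁]
    infer_instance
  obtain ⟨c, hc⟩ := K618.FieldFib.factors_of_mono p₁ p₂ hm (hX.representable_from_yon _) h.symm
  have hc2 : (yon S).map c ≫ (yon S).map j = (yon S).map j := by
    have h3 := congrArg (fun m => m ≫ q) hc
    simp only [hp₁, hp₂, Category.assoc, h₁, h₂, Category.comp_id] at h3
    exact h3
  rw [hp₁, hp₂, ← Category.assoc, hc2] at hc
  exact hj'.epi_of_iso.left_cancellation _ _ hc

end Space

section Val

open AlgSp K943.SpVal K943.SpUniq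

variable {S : Scheme.{u}} {M N : Sp S} {ℬ : BasedCategory.{v, w} (Over S)}

theorem obj_eq (a : (AlgSt.ofSp M).obj) (B : Over S) (e : a.base = B) :
    a = (⟨B, oy ((yon S).map (eqToHom e.symm) ≫ toYon a)⟩ : (AlgSt.ofSp M).obj) := by
  subst e
  obtain ⟨A, s⟩ := a
  rw [eqToHom_refl, (yon S).map_id, Category.id_comp, toYon, oy_yo]

theorem bf_ext {𝒜 : BasedCategory.{v, w} (Over S)} {𝒞 : BasedCategory.{v', w'} (Over S)} {Φ Ψ : 𝒜 ⥤ᵇ 𝒞}
    (h : Φ.toFunctor = Ψ.toFunctor) : Φ = Ψ := by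
  cases Φ
  cases Ψ
  simp only at h
  subst h
  rfl

/-- A functor to the category of a sheaf is determined by its values. -/
theorem eq_mkFun (Φ : ℬ ⥤ᵇ AlgSt.ofSp M) : Φ = mkFun (val Φ) (fun k => val_map Φ k) := by
  have hobj : ∀ b, Φ.obj b = (mkFun (val Φ) (fun k => val_map Φ k)).obj b := fun b => obj_eq (Φ.obj b) _ (Φ.w_obj b)
  have h : Φ.toFunctor = (mkFun (val Φ) (fun k => val_map Φ k)).toFunctor := by
    refine CategoryTheory.Functor.ext hobj fun z z' f => ?_
    apply Stk.EltObj.hom_ext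
    have h1 : (Φ.map f).hom = eqToHom (Φ.w_obj z) ≫ ℬ.p.map f ≫ eqToHom (Φ.w_obj z').symm :=
      K734.Fib.map_eq_base Φ f
    have h3 : ∀ {a b : (AlgSt.ofSp M).obj} (e : a = b),
        (eqToHom e : a ⟶ b).hom = eqToHom (congrArg (fun c => c.base) e) := by
      rintro a _ rfl
      rfl
    rw [Stk.EltObj.comp_hom, Stk.EltObj.comp_hom, h3, h3, h1]
    rfl
  exact bf_ext h

theorem functor_ext {Φ Ψ : ℬ ⥤ᵇ AlgSt.ofSp M} (h : ∀ b, val Φ b = val Ψ b) : Φ = Ψ := by
  have h1 : val Φ = val Ψ := funext h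
  rw [eq_mkFun Φ, eq_mkFun Ψ]
  simp only [h1]

theorem val_ofSpMap (Φ : ℬ ⥤ᵇ AlgSt.ofSp M) (f : M ⟶ N) (b : ℬ.obj) :
    val (BasedFunctor.comp Φ (AlgSt.ofSpMap f)) b = val Φ b ≫ f := by
  rw [val, val, Category.assoc]
  congr 1
  change yo (f.hom.app _ (Φ.obj b).sec) = yo (Φ.obj b).sec ≫ f
  apply (J S).uliftYonedaEquiv.injective
  rw [GrothendieckTopology.uliftYonedaEquiv_comp]
  change oy (yo _) = f.hom.app _ (oy (yo _))
  rw [oy_yo, oy_yo]

end Val

section Stack

open AlgSt K735.PtsSp K735.SpFp StMod K943.SpVal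

variable {S : Scheme.{u}}

/-- The identity and `ofSpMap (𝟙 _)`. -/
theorem comp_ofSpMap_id {𝒜 : BasedCategory.{v, w} (Over S)} {M : AlgSp.Sp S} (Φ : 𝒜 ⥤ᵇ ofSp M) :
    BasedFunctor.comp Φ (ofSpMap (𝟙 M)) = Φ :=
  functor_ext fun b => by rw [val_ofSpMap, Category.comp_id]

theorem vert_eq {a b : (ofSch (Over.mk (𝟙 S))).obj} {f g : a ⟶ b} (hf : K734.Fib.IsVert _ f)
    (hg : K734.Fib.IsVert _ g) : f = g :=
  K908.ToBase.hom_ext (hf.map_eq.trans hg.map_eq.symm)

/-- 2-isomorphisms into a 2-fibre product over the base. -/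
noncomputable def isoToBase {𝒲 : BasedCategory.{v', w'} (Over S)} {𝒳 : BasedCategory.{v, w} (Over S)}
    {𝒴 : BasedCategory.{v₂, u₂} (Over S)} {τ : 𝒳 ⥤ᵇ ofSch (Over.mk (𝟙 S))} {G : 𝒴 ⥤ᵇ ofSch (Over.mk (𝟙 S))}
    {H K : 𝒲 ⥤ᵇ FibCat.fp τ G}
    (h1 : BasedFunctor.comp H (FibCat.fpFst τ G) = BasedFunctor.comp K (FibCat.fpFst τ G))
    (h2 : BasedFunctor.comp H (FibCat.fpSnd τ G) = BasedFunctor.comp K (FibCat.fpSnd τ G)) : H ≅ K :=
  K734.Fib.liftExt (eqToIso h1) (eqToIso h2) (fun x => vert_eq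
    (((K734.Fib.app_vert (eqToIso h1) x).map τ).comp (K734.Fib.iso_vert _))
    ((K734.Fib.iso_vert _).comp ((K734.Fib.app_vert (eqToIso h2) x).map G)))

section Back

variable {𝒳 : BasedCategory.{v, w} (Over S)} (τ : 𝒳 ⥤ᵇ ofSch (Over.mk (𝟙 S))) {M : AlgSp.Sp S} (π : 𝒳 ⥤ᵇ ofSp M)
  {T : Over S} (g : (AlgSp.yon S).obj T ⟶ (AlgSp.yon S).obj (Over.mk (𝟙 S)))

theorem toProd_aux {b b' : (FibCat.fp τ (ofSpMap g)).obj} (k : b ⟶ b') :
    (AlgSp.yon S).map ((FibCat.fp τ (ofSpMap g)).p.map k) ≫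
        prod.lift (val (BasedFunctor.comp (FibCat.fpFst τ (ofSpMap g)) π) b') (val (FibCat.fpSnd τ (ofSpMap g)) b') =
      prod.lift (val (BasedFunctor.comp (FibCat.fpFst τ (ofSpMap g)) π) b) (val (FibCat.fpSnd τ (ofSpMap g)) b) := by
  rw [prod.comp_lift]
  exact congrArg₂ _ (val_map _ k) (val_map _ k)

/-- The functor from the base change of `𝒳` to the base change of `M`. -/
noncomputable def toProd : FibCat.fp τ (ofSpMap g) ⥤ᵇ ofSp (M ⨯ (AlgSp.yon S).obj T) :=
  mkFun (fun b => prod.lift (val (BasedFunctor.comp (FibCat.fpFst τ (ofSpMap g)) π) b)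
    (val (FibCat.fpSnd τ (ofSpMap g)) b)) (toProd_aux τ π g)

theorem val_toProd (b : (FibCat.fp τ (ofSpMap g)).obj) : val (toProd τ π g) b =
    prod.lift (val (BasedFunctor.comp (FibCat.fpFst τ (ofSpMap g)) π) b) (val (FibCat.fpSnd τ (ofSpMap g)) b) :=
  val_mkFun _ (toProd_aux τ π g) b

theorem toProd_fst : BasedFunctor.comp (toProd τ π g) (ofSpMap prod.fst) =
    BasedFunctor.comp (FibCat.fpFst τ (ofSpMap g)) π :=
  functor_ext fun b => by
    rw [val_ofSpMap, val_toProd, prod.lift_fst]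

theorem toProd_snd : BasedFunctor.comp (toProd τ π g) (ofSpMap prod.snd) = FibCat.fpSnd τ (ofSpMap g) :=
  functor_ext fun b => by
    rw [val_ofSpMap, val_toProd, prod.lift_snd]

end Back

theorem repWith_diag_prod {Pr : MorphismProperty Scheme.{u}} [Pr.IsStableUnderBaseChange]
    [Pr.IsStableUnderComposition] {X Y : AlgSp.Sp S} (hX : AlgSp.RepWith Pr (Limits.diag X))
    (hY : AlgSp.RepWith Pr (Limits.diag Y)) : AlgSp.RepWith Pr (Limits.diag (X ⨯ Y)) := by
  rw [K613.Chart.repWith_diag_iff] at hX hY ⊢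
  intro T a b
  obtain ⟨E, e, he, hP⟩ := hX T (a ≫ prod.fst) (b ≫ prod.fst)
  obtain ⟨E', e', he', hP'⟩ := hY E ((AlgSp.yon S).map e ≫ a ≫ prod.snd) ((AlgSp.yon S).map e ≫ b ≫ prod.snd)
  refine ⟨E', e' ≫ e, ⟨?_, fun R r hr => ?_⟩, Pr.comp_mem _ _ hP' hP⟩
  · apply Limits.prod.hom_ext
    · have h1 := he.w
      simp only [Functor.map_comp, Category.assoc]
      rw [h1]
    · have h1 := he'.w
      simpa only [Functor.map_comp, Category.assoc] using h1
  · obtain ⟨r₁, hr₁, hr₁'⟩ := he.lift R r (by rw [← Category.assoc, ← Category.assoc, hr])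
    obtain ⟨r₂, hr₂, hr₂'⟩ := he'.lift R r₁ (by
      rw [← Category.assoc, ← Category.assoc, ← Functor.map_comp, hr₁, ← Category.assoc, ← Category.assoc,
        ← Functor.map_comp, hr₁, hr])
    refine ⟨r₂, ?_, fun z hz => ?_⟩
    · dsimp only
      rw [← Category.assoc, hr₂, hr₁]
    · dsimp only at hz
      rw [← Category.assoc] at hz
      exact hr₂' z (hr₁' _ hz)

/-- If the closures of the points defined by `x₁`, `x₂` on the base change to `k` meet, then `x₁`, `x₂` have the same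
image. -/
theorem comp_eq_of_closure {𝒳 : BasedCategory.{v, w} (Over S)} (τ : 𝒳 ⥤ᵇ ofSch (Over.mk (𝟙 S))) {M : AlgSp.Sp S}
    (hM : AlgSp.IsAlgSpace M) (hMq : AlgSp.IsQuasiSeparatedSp M) (π : 𝒳 ⥤ᵇ ofSp M) {k : Type u} [Field k]
    (t : Spec (CommRingCat.of k) ⟶ S) (hT : AlgSp.IsQuasiSeparatedSp ((AlgSp.yon S).obj (Over.mk t)))
    (g : (AlgSp.yon S).obj (Over.mk t) ⟶ (AlgSp.yon S).obj (Over.mk (𝟙 S)))
    (x₁ x₂ : FibCat.overCat (Over.mk t) ⥤ᵇ 𝒳)
    (e₁ : BasedFunctor.comp x₁ τ ≅ BasedFunctor.comp (ofOverCat (Over.mk t)) (ofSpMap g))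
    (e₂ : BasedFunctor.comp x₂ τ ≅ BasedFunctor.comp (ofOverCat (Over.mk t)) (ofSpMap g))
    (t₀ : ↥(Spec (CommRingCat.of k)))
    (h : (closure {AlgSt.Points.ofChart (FibCat.fpLift x₁ (ofOverCat (Over.mk t)) e₁) t₀} ∩
      closure {AlgSt.Points.ofChart (FibCat.fpLift x₂ (ofOverCat (Over.mk t)) e₂) t₀}).Nonempty) :
    BasedFunctor.comp x₁ π = BasedFunctor.comp x₂ π := by
  obtain ⟨ξ, hξ₁, hξ₂⟩ := h
  let P : AlgSp.Sp S := M ⨯ (AlgSp.yon S).obj (Over.mk t)
  have hP : AlgSp.IsAlgSpace P := K606.Boot.isAlgSpace_prod hM (AlgSp.IsAlgSpace.yon_obj _)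
  have hPd : AlgSp.IsDecent P := Groth.Agent.S10350.result ⟨P, hP⟩ (repWith_diag_prod hMq hT)
  have key : ∀ (x : FibCat.overCat (Over.mk t) ⥤ᵇ 𝒳)
      (e : BasedFunctor.comp x τ ≅ BasedFunctor.comp (ofOverCat (Over.mk t)) (ofSpMap g)),
      ξ ∈ closure {AlgSt.Points.ofChart (FibCat.fpLift x (ofOverCat (Over.mk t)) e) t₀} →
      ∃ m : (AlgSp.yon S).obj (Over.mk t) ⟶ P, m ≫ prod.snd = 𝟙 _ ∧
        Nonempty (BasedFunctor.comp x π ≅ chart (m ≫ prod.fst)) ∧
        ptsEquiv P (Points.map (toProd τ π g) ξ) = AlgSp.Points.ofPt m t₀ := by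
    intro x e hx
    let L := FibCat.fpLift x (ofOverCat (Over.mk t)) e
    obtain ⟨i⟩ := exists_iso_chart (BasedFunctor.comp L (toProd τ π g))
    set m := unchart (BasedFunctor.comp L (toProd τ π g)) with hm
    refine ⟨m, ?_, ?_, ?_⟩
    · apply K748.Lift.chart_inj
      have h1 : BasedFunctor.comp (BasedFunctor.comp L (toProd τ π g)) (ofSpMap prod.snd) =
          chart (𝟙 ((AlgSp.yon S).obj (Over.mk t))) := by
        have h2 : BasedFunctor.comp (BasedFunctor.comp L (toProd τ π g)) (ofSpMap prod.snd) =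
            BasedFunctor.comp L (BasedFunctor.comp (toProd τ π g) (ofSpMap prod.snd)) := rfl
        rw [h2, toProd_snd]
        exact (comp_ofSpMap_id (ofOverCat (Over.mk t))).symm
      exact (K735.Fib.whiskerRightIso i.symm (ofSpMap prod.snd) :
        chart (m ≫ prod.snd) ≅ BasedFunctor.comp (BasedFunctor.comp L (toProd τ π g)) (ofSpMap prod.snd)) ≪≫
        eqToIso h1
    · have h1 : BasedFunctor.comp (BasedFunctor.comp L (toProd τ π g)) (ofSpMap prod.fst) = BasedFunctor.comp x π := by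
        have h2 : BasedFunctor.comp (BasedFunctor.comp L (toProd τ π g)) (ofSpMap prod.fst) =
            BasedFunctor.comp L (BasedFunctor.comp (toProd τ π g) (ofSpMap prod.fst)) := rfl
        rw [h2, toProd_fst]
        rfl
      exact ⟨eqToIso h1.symm ≪≫ K735.Fib.whiskerRightIso i (ofSpMap prod.fst)⟩
    · have hcl := isClosed_ofPt_of_section hP hPd prod.snd m (by
        apply K748.Lift.chart_inj
        have h1 : BasedFunctor.comp (BasedFunctor.comp L (toProd τ π g)) (ofSpMap prod.snd) =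
            chart (𝟙 ((AlgSp.yon S).obj (Over.mk t))) := by
          have h2 : BasedFunctor.comp (BasedFunctor.comp L (toProd τ π g)) (ofSpMap prod.snd) =
              BasedFunctor.comp L (BasedFunctor.comp (toProd τ π g) (ofSpMap prod.snd)) := rfl
          rw [h2, toProd_snd]
          exact (comp_ofSpMap_id (ofOverCat (Over.mk t))).symm
        exact (K735.Fib.whiskerRightIso i.symm (ofSpMap prod.snd) :
          chart (m ≫ prod.snd) ≅ BasedFunctor.comp (BasedFunctor.comp L (toProd τ π g)) (ofSpMap prod.snd)) ≪≫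
          eqToIso h1) t₀
      have h1 := K907.KPt.isClosed_preimage (toProd τ π g) hcl
      have h2 : ξ ∈ {x : AlgSt.Points (FibCat.fp τ (ofSpMap g)) | ptsEquiv P (AlgSt.Points.map (toProd τ π g) x) ∈
          ({AlgSp.Points.ofPt m t₀} : Set (AlgSp.Points P))} := by
        refine h1.closure_subset_iff.2 ?_ hx
        rintro _ rfl
        change ptsEquiv P (AlgSt.Points.map (toProd τ π g) (AlgSt.Points.ofChart L t₀)) = _
        rw [map_ofChart, ofChart_congr i, ptsEquiv_ofChart]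
      exact h2
  obtain ⟨m₁, h₁, ⟨i₁⟩, p₁⟩ := key x₁ e₁ hξ₁
  obtain ⟨m₂, h₂, ⟨i₂⟩, p₂⟩ := key x₂ e₂ hξ₂
  have hm := eq_of_ofPt_eq hP prod.snd m₁ m₂ h₁ h₂ t₀ (p₁.symm.trans p₂)
  subst hm
  exact K907.KPt.eq_of_iso (i₁ ≪≫ i₂.symm)

/-- If `x₁`, `x₂` have the same image in the good moduli space, then the closures of the points they define on the base
change to `k` meet. -/
theorem closure_of_comp_eq {𝒳 : BasedCategory.{v, w} (Over S)} (τ : 𝒳 ⥤ᵇ ofSch (Over.mk (𝟙 S))) {M : AlgSp.Sp S}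
    (π : 𝒳 ⥤ᵇ ofSp M) {k : Type u} [Field k]
    (t : Spec (CommRingCat.of k) ⟶ S)
    (g : (AlgSp.yon S).obj (Over.mk t) ⟶ (AlgSp.yon S).obj (Over.mk (𝟙 S)))
    (x₁ x₂ : FibCat.overCat (Over.mk t) ⥤ᵇ 𝒳)
    (e₁ : BasedFunctor.comp x₁ τ ≅ BasedFunctor.comp (ofOverCat (Over.mk t)) (ofSpMap g))
    (e₂ : BasedFunctor.comp x₂ τ ≅ BasedFunctor.comp (ofOverCat (Over.mk t)) (ofSpMap g))
    (t₀ : ↥(Spec (CommRingCat.of k)))
    (hX : K735.Top.ChartCont (FibCat.fp τ (ofSpMap g)))
    (hZ : ∀ g' : (AlgSp.yon S).obj (Over.mk t) ⟶ M, ∃ h : FibCat.IsFibGrpd (FibCat.fp (ofSpMap g') π).p,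
      K907.Rows.HasCov h ∧ IsGoodModuli (FibCat.fpFst (ofSpMap g') π))
    (he : BasedFunctor.comp x₁ π = BasedFunctor.comp x₂ π) :
    (closure {AlgSt.Points.ofChart (FibCat.fpLift x₁ (ofOverCat (Over.mk t)) e₁) t₀} ∩
      closure {AlgSt.Points.ofChart (FibCat.fpLift x₂ (ofOverCat (Over.mk t)) e₂) t₀}).Nonempty := by
  let m := unchart (BasedFunctor.comp x₁ π)
  obtain ⟨i⟩ := exists_iso_chart (BasedFunctor.comp x₁ π)
  obtain ⟨hf, hcov, hgood⟩ := hZ m
  let K : FibCat.fp (ofSpMap m) π ⥤ᵇ FibCat.fp τ (ofSpMap g) :=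
    FibCat.fpLift (FibCat.fpSnd (ofSpMap m) π) (FibCat.fpFst (ofSpMap m) π)
      (eqToIso (K908.ToBase.functor_eq _ _))
  have hK : Continuous (Points.map K) := K735.Top.continuous_map hX K
  -- the points of the fibre
  have key : ∀ (x : FibCat.overCat (Over.mk t) ⥤ᵇ 𝒳)
      (e : BasedFunctor.comp x τ ≅ BasedFunctor.comp (ofOverCat (Over.mk t)) (ofSpMap g))
      (j : chart m ≅ BasedFunctor.comp x π),
      ∃ y : Points (FibCat.fp (ofSpMap m) π),
        Points.map (FibCat.fpFst (ofSpMap m) π) y = Points.ofChart (ofOverCat (Over.mk t)) t₀ ∧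
        Points.map K y = Points.ofChart (FibCat.fpLift x (ofOverCat (Over.mk t)) e) t₀ := by
    intro x e j
    let Y : FibCat.overCat (Over.mk t) ⥤ᵇ FibCat.fp (ofSpMap m) π := FibCat.fpLift (ofOverCat (Over.mk t)) x j
    refine ⟨Points.ofChart Y t₀, ?_, ?_⟩
    · rw [map_ofChart]
      rfl
    · have h1 : Points.map K (Points.ofChart Y t₀) = Points.ofChart (BasedFunctor.comp Y K) t₀ := map_ofChart Y K t₀
      have a1 : BasedFunctor.comp (BasedFunctor.comp Y K) (FibCat.fpFst τ (ofSpMap g)) =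
        BasedFunctor.comp (FibCat.fpLift x (ofOverCat (Over.mk t)) e) (FibCat.fpFst τ (ofSpMap g)) := rfl
      have a2 : BasedFunctor.comp (BasedFunctor.comp Y K) (FibCat.fpSnd τ (ofSpMap g)) =
        BasedFunctor.comp (FibCat.fpLift x (ofOverCat (Over.mk t)) e) (FibCat.fpSnd τ (ofSpMap g)) := rfl
      exact h1.trans (ofChart_congr (isoToBase a1 a2) t₀)
  obtain ⟨y₁, h₁, h₁'⟩ := key x₁ e₁ i.symm
  obtain ⟨y₂, h₂, h₂'⟩ := key x₂ e₂ (i.symm ≪≫ eqToIso he)
  have hne : (closure {y₁} ∩ closure {y₂}).Nonempty := by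
    by_contra hn
    rw [Set.not_nonempty_iff_eq_empty, ← Set.disjoint_iff_inter_eq_empty] at hn
    exact K907.Rows.map_ne hf hcov (AlgSp.IsAlgSpace.yon_obj _) (FibCat.fpFst (ofSpMap m) π) hgood isClosed_closure
      isClosed_closure hn (subset_closure rfl) (subset_closure rfl) (h₁.trans h₂.symm)
  obtain ⟨ζ, hζ₁, hζ₂⟩ := hne
  refine ⟨Points.map K ζ, ?_, ?_⟩
  · rw [← h₁']
    have := image_closure_subset_closure_image hK (Set.mem_image_of_mem (Points.map K) hζ₁)
    rwa [Set.image_singleton] at this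
  · rw [← h₂']
    have := image_closure_subset_closure_image hK (Set.mem_image_of_mem (Points.map K) hζ₂)
    rwa [Set.image_singleton] at this

end Stack

end K815.SamePt
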