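import Groth.Agent.StMod.K815.FreeBs
import Groth.Agent.StMod.K907.Closed
import Groth.Agent.StMod.K159.LocFree

/-!
# The closed set of points where a family of sections is not a basis (helper815)

* `fpFlat`: sections of a vector bundle over affine objects are finitely presented and flat;
* `BsAt G s ξ`: the global sections `s` of `G` form a basis over `ξ`; `BsAt.pull`, `BsAt.desc`;
* `bad h𝒳 G s`: the set of points of `|𝒳|` where `s` is not a basis; `isCl_bad`, `bsAt_of_forall`.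
-/

set_option autoImplicit false
set_option linter.unusedVariables false
set_option linter.style.haveILetI false
set_option backward.isDefEq.respectTransparency false
set_option backward.isDefEq.respectTransparency.types false

universe w v u

open CategoryTheory CategoryTheory.Limits AlgebraicGeometry Opposite StMod AlgSt

namespace K815.Bad

open Groth.Agent.CohqA.BaseChangeMod K815.BasisAlg K907.Alg K907.Sec K907.Pt K907.Van K907.Closed

variable {S : Scheme.{u}} {𝒳 : BasedCategory.{v, w} (Over S)}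

/-- Sections of a vector bundle over an affine object. -/
theorem fpFlat {F : QCoh 𝒳} (hF : F.obj.IsLocFree) (hF' : F.obj.IsFinType) (ξ : 𝒳.obj) [hξ : IsAffine (sch 𝒳 ξ)] :
    Module.FinitePresentation Γ(sch 𝒳 ξ, ⊤) Γ(F.obj.obj ξ, ⊤) ∧ Module.Flat Γ(sch 𝒳 ξ, ⊤) Γ(F.obj.obj ξ, ⊤) := by
  have h1 : FlatMod.IsFinLocFree (F.obj.obj ξ) := (K799.LFree.locFree_finType_iff _).1 ⟨hF ξ, hF' ξ⟩
  exact (Groth.Agent.Desc.FinLocFreeSections.isFinLocFree_iff_of_cover (F.property.2 ξ) (fun _ => True)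
    (fun x => ⟨⊤, trivial, isAffineOpen_top _, trivial⟩)).1 h1 ⊤ trivial (isAffineOpen_top _)

variable {I : Type u}

/-- The global sections `s` form a basis over `ξ`. -/
def BsAt (G : QCoh 𝒳) (s : I → G.obj.GlobSect) (ξ : 𝒳.obj) : Prop := Bs Γ(sch 𝒳 ξ, ⊤) (fun i => (s i).1 ξ)

theorem BsAt.pull {G : QCoh 𝒳} {s : I → G.obj.GlobSect} {ξ' ξ : 𝒳.obj} [IsAffine (sch 𝒳 ξ)] [IsAffine (sch 𝒳 ξ')]
    (φ : ξ' ⟶ ξ) (h : BsAt G s ξ) : BsAt G s ξ' := by
  have h1 := Bs.map (isBC_resTop G φ) h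
  have e : (fun i => resTop G.obj φ ((s i).1 ξ)) = fun i => (s i).1 ξ' := by
    funext i
    exact (s i).2 φ
  rw [e] at h1
  exact h1

theorem BsAt.desc {G : QCoh 𝒳} {s : I → G.obj.GlobSect} {ξ' ξ : 𝒳.obj} [IsAffine (sch 𝒳 ξ)] [IsAffine (sch 𝒳 ξ')]
    (φ : ξ' ⟶ ξ) (hφ : (ringMap φ).FaithfullyFlat) (h : BsAt G s ξ') : BsAt G s ξ := by
  refine Bs.of_ff hφ (isBC_resTop G φ) ?_
  have e : (fun i => resTop G.obj φ ((s i).1 ξ)) = fun i => (s i).1 ξ' := by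
    funext i
    exact (s i).2 φ
  rw [e]
  exact h

theorem isAffine_fpt (p : FPt 𝒳) : IsAffine (sch 𝒳 p.obj) := by
  change IsAffine (𝒳.p.obj p.obj).left
  rw [p.lies]
  change IsAffine (Spec (CommRingCat.of p.K))
  infer_instance

theorem isField_fpt (p : FPt 𝒳) : IsField Γ(sch 𝒳 p.obj, ⊤) := by
  have h : ∀ (X : Over S), X = Over.mk p.str → IsField Γ(X.left, ⊤) := by
    rintro X rfl
    have e : Γ(Spec (CommRingCat.of p.K), ⊤) ≃+* p.K := (Scheme.ΓSpecIso (CommRingCat.of p.K)).commRingCatIsoToRingEquiv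
    exact MulEquiv.isField (Field.toIsField p.K) e.toMulEquiv
  exact h _ p.lies

theorem faithfullyFlat_isField {K L : Type u} [CommRing K] [CommRing L] (hK : IsField K) (hL : IsField L)
    (φ : K →+* L) : φ.FaithfullyFlat := by
  letI := hK.toField
  letI := hL.toField
  exact faithfullyFlat_field φ

theorem bsAt_iff_of_arrow {G : QCoh 𝒳} {s : I → G.obj.GlobSect} {p q : FPt 𝒳} (a : p.obj ⟶ q.obj) :
    BsAt G s p.obj ↔ BsAt G s q.obj := by
  haveI := isAffine_fpt p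
  haveI := isAffine_fpt q
  exact ⟨BsAt.desc a (faithfullyFlat_isField (isField_fpt q) (isField_fpt p) _), BsAt.pull a⟩

variable (h𝒳 : FibCat.IsFibGrpd 𝒳.p)

/-- The points where `s` is not a basis. -/
def bad (G : QCoh 𝒳) (s : I → G.obj.GlobSect) : Set (Points 𝒳) := {x | ∃ p : FPt 𝒳, Points.mk p = x ∧ ¬ BsAt G s p.obj}

include h𝒳 in
theorem mk_mem_bad_iff {G : QCoh 𝒳} {s : I → G.obj.GlobSect} (p : FPt 𝒳) :
    Points.mk p ∈ bad G s ↔ ¬ BsAt G s p.obj := by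
  constructor
  · rintro ⟨q, hq, h⟩ hp
    obtain ⟨r, a, b, -⟩ := (K735.Pts.mk_eq_mk_iff h𝒳).1 hq
    exact h ((bsAt_iff_of_arrow a).1 ((bsAt_iff_of_arrow b).2 hp))
  · intro h
    exact ⟨p, rfl, h⟩

/-- The kernel of restriction to the residue field. -/
theorem ker_fptArr (ξ : 𝒳.obj) (t : ↥(sch 𝒳 ξ)) :
    RingHom.ker (ringMap (fptArr h𝒳 ξ t)) = (sp t).asIdeal := by
  ext g
  have hF := isField_fpt (fpt h𝒳 ξ t)
  haveI := isAffine_fpt (fpt h𝒳 ξ t)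
  have h1 := mem_sp_comp (bmap 𝒳 (fptArr h𝒳 ξ t)) (ptt (fpt h𝒳 ξ t)) g
  rw [bmap_fptArr_ptt] at h1
  rw [h1, RingHom.mem_ker]
  change _ ↔ ringMap (fptArr h𝒳 ξ t) g ∈ _
  constructor
  · intro h
    rw [h]
    exact Submodule.zero_mem _
  · intro h
    by_contra hne
    obtain ⟨b, hb⟩ := hF.mul_inv_cancel hne
    have h2 : (1 : Γ(sch 𝒳 (fpt h𝒳 ξ t).obj, ⊤)) ∈ (sp (ptt (fpt h𝒳 ξ t))).asIdeal := by
      rw [← hb]
      exact Ideal.mul_mem_right _ _ h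
    exact (sp (ptt (fpt h𝒳 ξ t))).isPrime.ne_top ((Ideal.eq_top_iff_one _).2 h2)

theorem exists_of_isField {A L : Type u} [CommRing A] [CommRing L] (hL : IsField L) {M V : Type u} [AddCommGroup M]
    [Module A M] [AddCommGroup V] [Module L V] [Finite I] (h₁ : Module.FinitePresentation A M) (h₂ : Module.Flat A M)
    {φ : A →+* L} {f : M →+ V} (hf : IsBC φ f) {s : I → M} (h : Bs L (fun i => f (s i))) :
    ∃ g : A, φ g ≠ 0 ∧ ∀ {B : Type u} [CommRing B] {N : Type u} [AddCommGroup N] [Module B N] (ψ : A →+* B) (f' : M →+ N),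
      IsBC ψ f' → IsUnit (ψ g) → Bs B (fun i => f' (s i)) := by
  letI := hL.toField
  exact Bs.exists_of_field h₁ h₂ (L := L) hf h

theorem of_forall_isField {A M : Type u} [CommRing A] [AddCommGroup M] [Module A M] [Finite I]
    (h₁ : Module.FinitePresentation A M) (h₂ : Module.Flat A M) {s : I → M}
    (h : ∀ (p : Ideal A) (_ : p.IsPrime), ∃ (L : Type u) (_ : CommRing L) (V : Type u) (_ : AddCommGroup V)
      (_ : Module L V) (φ : A →+* L) (f : M →+ V), IsField L ∧ RingHom.ker φ = p ∧ IsBC φ f ∧ Bs L (fun i => f (s i))) :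
    Bs A s := by
  refine Bs.of_forall_field h₁ h₂ fun p hp => ?_
  obtain ⟨L, _, V, _, _, φ, f, hL, h1, h2, h3⟩ := h p hp
  letI := hL.toField
  exact ⟨L, inferInstance, V, inferInstance, inferInstance, φ, f, h1, h2, h3⟩

/-- The bad points form a closed set. -/
theorem isCl_bad [Finite I] {G : QCoh 𝒳} (hG : G.obj.IsLocFree) (hG' : G.obj.IsFinType) (s : I → G.obj.GlobSect) :
    IsCl h𝒳 (bad G s) := by
  intro ξ hξ
  rw [← isOpen_compl_iff, isOpen_iff_mem_nhds]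
  intro t ht
  have h1 : BsAt G s (fpt h𝒳 ξ t).obj := by
    by_contra hcon
    exact ht ((mk_mem_bad_iff h𝒳 (fpt h𝒳 ξ t)).2 hcon)
  haveI := isAffine_fpt (fpt h𝒳 ξ t)
  obtain ⟨hfp, hfl⟩ := fpFlat hG hG' ξ
  have h2 : Bs Γ(sch 𝒳 (fpt h𝒳 ξ t).obj, ⊤) (fun i => resTop G.obj (fptArr h𝒳 ξ t) ((s i).1 ξ)) := by
    have e : (fun i => resTop G.obj (fptArr h𝒳 ξ t) ((s i).1 ξ)) = fun i => (s i).1 (fpt h𝒳 ξ t).obj := by
      funext i
      exact (s i).2 (fptArr h𝒳 ξ t)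
    rw [e]
    exact h1
  obtain ⟨g, hg, H⟩ := exists_of_isField (isField_fpt _) hfp hfl (isBC_resTop G (fptArr h𝒳 ξ t)) h2
  have hsp : ∀ t' : ↥(sch 𝒳 ξ), ringMap (fptArr h𝒳 ξ t') g ≠ 0 ↔ t' ∈ (sch 𝒳 ξ).basicOpen g := by
    intro t'
    have h3 : ringMap (fptArr h𝒳 ξ t') g = 0 ↔ g ∈ (sp t').asIdeal := by
      rw [← ker_fptArr h𝒳 ξ t', RingHom.mem_ker]
    rw [Ne, h3, mem_sp, not_not]
  refine Filter.mem_of_superset (((sch 𝒳 ξ).basicOpen g).2.mem_nhds ((hsp t).1 hg)) ?_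
  intro t' ht' hbad
  refine (mk_mem_bad_iff h𝒳 (fpt h𝒳 ξ t')).1 hbad ?_
  haveI := isAffine_fpt (fpt h𝒳 ξ t')
  have h4 : IsUnit (ringMap (fptArr h𝒳 ξ t') g) := by
    obtain ⟨b, hb⟩ := (isField_fpt (fpt h𝒳 ξ t')).mul_inv_cancel ((hsp t').2 ht')
    exact IsUnit.of_mul_eq_one b hb
  have h5 := H (ringMap (fptArr h𝒳 ξ t')) (resTop G.obj (fptArr h𝒳 ξ t')) (isBC_resTop G (fptArr h𝒳 ξ t')) h4
  have e : (fun i => resTop G.obj (fptArr h𝒳 ξ t') ((s i).1 ξ)) = fun i => (s i).1 (fpt h𝒳 ξ t').obj := by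
    funext i
    exact (s i).2 (fptArr h𝒳 ξ t')
  rw [e] at h5
  exact h5

/-- A family without bad points is a basis. -/
theorem bsAt_of_forall [Finite I] {G : QCoh 𝒳} (hG : G.obj.IsLocFree) (hG' : G.obj.IsFinType) (s : I → G.obj.GlobSect)
    (ξ : 𝒳.obj) [hξ : IsAffine (sch 𝒳 ξ)] (h : ∀ t : ↥(sch 𝒳 ξ), pt h𝒳 ξ t ∉ bad G s) : BsAt G s ξ := by
  obtain ⟨hfp, hfl⟩ := fpFlat hG hG' ξ
  refine of_forall_isField hfp hfl fun p hp => ?_
  obtain ⟨t, ht⟩ := (sp_bijective (X := sch 𝒳 ξ)).2 ⟨p, hp⟩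
  haveI := isAffine_fpt (fpt h𝒳 ξ t)
  refine ⟨Γ(sch 𝒳 (fpt h𝒳 ξ t).obj, ⊤), inferInstance, Γ(G.obj.obj (fpt h𝒳 ξ t).obj, ⊤), inferInstance, inferInstance,
    ringMap (fptArr h𝒳 ξ t), resTop G.obj (fptArr h𝒳 ξ t), isField_fpt _, ?_, isBC_resTop G (fptArr h𝒳 ξ t), ?_⟩
  · rw [ker_fptArr, ht]
  · have h1 : BsAt G s (fpt h𝒳 ξ t).obj := by
      by_contra hcon
      exact h t ((mk_mem_bad_iff h𝒳 (fpt h𝒳 ξ t)).2 hcon)
    have e : (fun i => resTop G.obj (fptArr h𝒳 ξ t) ((s i).1 ξ)) = fun i => (s i).1 (fpt h𝒳 ξ t).obj := by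
      funext i
      exact (s i).2 (fptArr h𝒳 ξ t)
    rw [e]
    exact h1

end K815.Bad
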