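import Groth.Agent.StMod.K907.Alg
import Mathlib.RingTheory.LocalRing.Module
import Mathlib.RingTheory.LocalProperties.Exactness
import Mathlib.Algebra.Module.FinitePresentation
import Mathlib.RingTheory.TensorProduct.IsBaseChangePi

/-!
# Families which are bases, and base change (helper815)

`Bs A s`: the family `s : ι → M` is a basis of the `A`-module `M`.

* `Bs.map`, `Bs.of_ff`: base change and faithfully flat descent;
* `Bs.exists_of_field`: a family of a finitely presented flat module which is a basis over a field-valued point is a basis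
  near that point;
* `Bs.of_forall_field`: a family which is a basis over all residue fields is a basis.
-/

set_option autoImplicit false
set_option linter.unusedVariables false
set_option linter.style.haveILetI false
set_option backward.isDefEq.respectTransparency false
set_option backward.isDefEq.respectTransparency.types false

universe u

open CategoryTheory

namespace K815.BasisAlg

open Groth.Agent.CohqA.BaseChangeMod K907.Alg

/-- The family `s` is a basis. -/
def Bs (A : Type u) [CommRing A] {M : Type u} [AddCommGroup M] [Module A M] {ι : Type u} (s : ι → M) : Prop :=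
  Function.Bijective (Finsupp.linearCombination A s)

variable {A B C : Type u} [CommRing A] [CommRing B] [CommRing C] {M N P : Type u} [AddCommGroup M] [Module A M]
  [AddCommGroup N] [Module B N] [AddCommGroup P] [Module C P] {ι : Type u}

/-- The coordinatewise ring map. -/
noncomputable def mr (φ : A →+* B) (ι : Type u) : (ι →₀ A) →+ (ι →₀ B) := Finsupp.mapRange.addMonoidHom (φ : A →+ B)

theorem mr_single (φ : A →+* B) (i : ι) (a : A) : mr φ ι (Finsupp.single i a) = Finsupp.single i (φ a) := by
  exact Finsupp.mapRange_single (hf := map_zero φ)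

theorem mr_injective {φ : A →+* B} (hφ : Function.Injective φ) : Function.Injective (mr φ ι) :=
  Finsupp.mapRange_injective _ (map_zero φ) hφ

theorem linComb_mr {φ : A →+* B} {f : M →+ N} (hf : ∀ (r : A) (x : M), f (r • x) = φ r • f x) (s : ι → M) (x : ι →₀ A) :
    Finsupp.linearCombination B (fun i => f (s i)) (mr φ ι x) = f (Finsupp.linearCombination A s x) := by
  induction x using Finsupp.induction_linear with
  | zero => simp
  | add x y hx hy => rw [map_add, map_add, hx, hy, map_add, map_add]
  | single i a => rw [mr_single, Finsupp.linearCombination_single, Finsupp.linearCombination_single, hf]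

theorem isBC_mr (φ : A →+* B) (ι : Type u) : IsBC φ (mr φ ι) := by
  letI := φ.toAlgebra
  have h1 : IsBaseChange B (Algebra.linearMap A B) := IsBaseChange.linearMap A B
  have h2 := (isBC_iff_isBaseChange (A := A) (B := B) _).2 (IsBaseChange.finsuppPow (ι := ι) h1)
  exact h2

/-- A bijection followed by a base change is a base change. -/
theorem isBC_comp_bij {φ : A →+* B} {f : M →+ N} (hf : IsBC φ f) {M' : Type u} [AddCommGroup M'] [Module A M']
    (e : M' →ₗ[A] M) (he : Function.Bijective e) : IsBC φ (f.comp e.toAddMonoidHom) := by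
  have h1 : IsBC (RingHom.id A) e.toAddMonoidHom :=
    IsBC.of_bijective (RingHom.id A) Function.bijective_id e.toAddMonoidHom he (fun r x => e.map_smul r x)
  exact h1.comp hf

/-- Base change of bases. -/
theorem Bs.map {φ : A →+* B} {f : M →+ N} (hf : IsBC φ f) {s : ι → M} (h : Bs A s) : Bs B (fun i => f (s i)) :=
  (isBC_mr φ ι).bijective_of_isBC (isBC_comp_bij hf _ h) (Finsupp.linearCombination B (fun i => f (s i)))
    (fun x => linComb_mr hf.map_smul s x)

/-- Faithfully flat descent of bases. -/
theorem Bs.of_ff {φ : A →+* B} (hφ : φ.FaithfullyFlat) {f : M →+ N} (hf : IsBC φ f) {s : ι → M}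
    (h : Bs B (fun i => f (s i))) : Bs A s := by
  constructor
  · rw [injective_iff_map_eq_zero]
    intro x hx
    have h1 : Finsupp.linearCombination B (fun i => f (s i)) (mr φ ι x) = 0 := by
      rw [linComb_mr hf.map_smul, hx, map_zero]
    have h2 : mr φ ι x = 0 := h.1 (h1.trans (map_zero _).symm)
    have hinj : Function.Injective φ := by
      letI : Algebra A B := φ.toAlgebra
      haveI : Module.FaithfullyFlat A B := hφ
      exact FaithfulSMul.algebraMap_injective A B
    exact mr_injective hinj (h2.trans (map_zero _).symm)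
  · rw [← LinearMap.range_eq_top, Finsupp.range_linearCombination, eq_top_iff]
    intro x _
    refine mem_of_mem_ext hφ hf ?_
    have h1 : (f x) ∈ Submodule.span B (Set.range fun i => f (s i)) := by
      rw [← Finsupp.range_linearCombination, LinearMap.range_eq_top.2 h.2]
      trivial
    refine Submodule.span_mono ?_ h1
    rintro _ ⟨i, rfl⟩
    exact ⟨s i, Submodule.subset_span ⟨i, rfl⟩, rfl⟩

/-- Bases and isomorphisms. -/
theorem Bs.of_bijective {φ : A →+* B} (hφ : Function.Bijective φ) {f : M →+ N} (hf : Function.Bijective f)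
    (hs : ∀ (r : A) (x : M), f (r • x) = φ r • f x) {s : ι → M} (h : Bs A s) : Bs B (fun i => f (s i)) :=
  h.map (IsBC.of_bijective φ hφ f hf hs)

theorem isBC_mk (T : Submonoid A) (M : Type u) [AddCommGroup M] [Module A M] :
    IsBC (algebraMap A (Localization T)) (LocalizedModule.mkLinearMap T M).toAddMonoidHom :=
  (isBC_iff_isBaseChange _).2 ((isLocalizedModule_iff_isBaseChange T _ _).1 inferInstance)

theorem bs_localized_iff (T : Submonoid A) (s : ι → M) :
    Bs (Localization T) (fun i => LocalizedModule.mkLinearMap T M (s i)) ↔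
      Function.Bijective (LocalizedModule.map T (Finsupp.linearCombination A s)) := by
  obtain ⟨e, he⟩ := (isBC_mr (algebraMap A (Localization T)) ι).exists_equiv (isBC_mk T (ι →₀ A))
  have h1 : (LocalizedModule.map T (Finsupp.linearCombination A s)) ∘ₗ e.toLinearMap =
      Finsupp.linearCombination (Localization T) (fun i => LocalizedModule.mkLinearMap T M (s i)) := by
    refine (isBC_mr (algebraMap A (Localization T)) ι).hom_ext fun x => ?_
    have h2 := linComb_mr (A := A) (B := Localization T) (M := M) (N := LocalizedModule T M)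
      (φ := algebraMap A (Localization T))
      (f := (LocalizedModule.mkLinearMap T M).toAddMonoidHom) (isBC_mk T M).map_smul s x
    refine Eq.trans ?_ h2.symm
    change LocalizedModule.map T (Finsupp.linearCombination A s) (e (mr _ ι x)) = _
    rw [he]
    exact LocalizedModule.map_mk T _ _ _
  unfold Bs
  rw [← h1]
  constructor
  · intro h
    have h3 := h.comp e.symm.bijective
    have h4 : (⇑(LocalizedModule.map T (Finsupp.linearCombination A s) ∘ₗ e.toLinearMap) ∘ ⇑e.symm) =
        ⇑(LocalizedModule.map T (Finsupp.linearCombination A s)) := by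
      funext x
      change LocalizedModule.map T (Finsupp.linearCombination A s) (e (e.symm x)) = _
      rw [LinearEquiv.apply_symm_apply]
    rwa [h4] at h3
  · intro h
    exact h.comp e.bijective

/-- Factorisation of base changes. -/
theorem exists_fac {α : A →+* B} {g : M →+ N} (hg : IsBC α g) {φ : A →+* C} {f : M →+ P} (hf : IsBC φ f) (β : B →+* C)
    (hβ : β.comp α = φ) : ∃ f' : N →+ P, IsBC β f' ∧ ∀ x, f' (g x) = f x := by
  letI : Module B P := Module.compHom P β
  obtain ⟨f', h1, -⟩ := hg.lift P f (fun r x => by
    rw [hf.map_smul, ← hβ]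
    rfl)
  have h2 : ∀ (r : B) (x : N), f'.toAddMonoidHom (r • x) = β r • f'.toAddMonoidHom x := fun r x => f'.map_smul r x
  refine ⟨f'.toAddMonoidHom, (hg.comp_iff h2).1 ?_, h1⟩
  have h3 : f'.toAddMonoidHom.comp g = f := AddMonoidHom.ext h1
  rw [hβ, h3]
  exact hf

theorem faithfullyFlat_field {K L : Type u} [Field K] [Field L] (φ : K →+* L) : φ.FaithfullyFlat := by
  letI := φ.toAlgebra
  change Module.FaithfullyFlat K L
  infer_instance

theorem isLocalHom_lift {L : Type u} [Field L] {φ : A →+* L} {p : Ideal A} [hp : p.IsPrime] (hk : RingHom.ker φ = p)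
    (φp : Localization.AtPrime p →+* L) (hφp : φp.comp (algebraMap A (Localization.AtPrime p)) = φ) : IsLocalHom φp := by
  constructor
  intro a ha
  obtain ⟨⟨x, y⟩, hxy⟩ := IsLocalization.surj p.primeCompl a
  have h0 : ∀ z, φp (algebraMap A _ z) = φ z := fun z => RingHom.congr_fun hφp z
  have hy : φ (y : A) ≠ 0 := fun h => y.2 (hk.le h)
  have h2 : φ x ≠ 0 := by
    rw [← h0, ← hxy, map_mul, h0]
    exact mul_ne_zero ha.ne_zero hy
  have h3 : IsUnit (algebraMap A (Localization.AtPrime p) x) := by
    refine IsLocalization.map_units (M := p.primeCompl) _ (⟨x, fun h => h2 ?_⟩ : p.primeCompl)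
    rw [← hk] at h
    exact h
  have h4 : IsUnit (a * algebraMap A (Localization.AtPrime p) (y : A)) := by
    rw [hxy]
    exact h3
  exact isUnit_of_mul_isUnit_left h4

/-- Bases over a field over a local ring. -/
theorem bs_of_local {R : Type u} [CommRing R] [IsLocalRing R] {M : Type u} [AddCommGroup M] [Module R M]
    [Module.Finite R M] [Module.Flat R M] {L : Type u} [Field L] {V : Type u} [AddCommGroup V] [Module L V]
    (φ : R →+* L) [hφ : IsLocalHom φ] {f : M →+ V} (hf : IsBC φ f) {s : ι → M} (h : Bs L (fun i => f (s i))) :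
    Bs R s := by
  let φκ : IsLocalRing.ResidueField R →+* L := IsLocalRing.ResidueField.lift φ
  have hφκ : φκ.comp (algebraMap R (IsLocalRing.ResidueField R)) = φ := IsLocalRing.ResidueField.lift_comp_residue φ
  have hκ : IsBC (algebraMap R (IsLocalRing.ResidueField R))
      (TensorProduct.mk R (IsLocalRing.ResidueField R) M 1).toAddMonoidHom :=
    (isBC_iff_isBaseChange _).2 (TensorProduct.isBaseChange _ _ _)
  obtain ⟨fκ, hfκ, hfκ'⟩ := exists_fac hκ hf φκ hφκ
  have h1 : Bs (IsLocalRing.ResidueField R) (fun i => (TensorProduct.mk R (IsLocalRing.ResidueField R) M 1) (s i)) := by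
    refine Bs.of_ff (faithfullyFlat_field φκ) hfκ ?_
    have e : (fun i => fκ ((TensorProduct.mk R (IsLocalRing.ResidueField R) M 1) (s i))) = fun i => f (s i) := by
      funext i
      exact hfκ' _
    rw [e]
    exact h
  exact Module.IsLocalRing.linearCombination_bijective_of_flat (R := R) _ h1

theorem bs_of_powers {g : A} {s : ι → M}
    (h : Bs (Localization (Submonoid.powers g)) (fun i => LocalizedModule.mkLinearMap (Submonoid.powers g) M (s i)))
    {ψ : A →+* B} {f' : M →+ N} (hf' : IsBC ψ f') (hu : IsUnit (ψ g)) : Bs B (fun i => f' (s i)) := by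
  let ψg : Localization (Submonoid.powers g) →+* B := IsLocalization.Away.lift g hu
  have hψg : ψg.comp (algebraMap A _) = ψ := IsLocalization.Away.lift_comp g hu
  obtain ⟨f'', h4, h5⟩ := exists_fac (isBC_mk (Submonoid.powers g) M) hf' ψg hψg
  have h6 := Bs.map h4 h
  have e : (fun i => f'' (LocalizedModule.mkLinearMap (Submonoid.powers g) M (s i))) = fun i => f' (s i) := by
    funext i
    exact h5 _
  rw [e] at h6
  exact h6

theorem exists_powers_aux {P : Type u} [AddCommGroup P] [Module A P]
    [Module.Finite A P] [Module.FinitePresentation A M] (l : P →ₗ[A] M) {p : Ideal A} [p.IsPrime]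
    (h : Function.Bijective (LocalizedModule.map p.primeCompl l)) :
    ∃ g ∉ p, Function.Bijective (LocalizedModule.map (Submonoid.powers g) l) :=
  Module.FinitePresentation.exists_notMem_bijective l p
    (LocalizedModule.mkLinearMap p.primeCompl P) (LocalizedModule.mkLinearMap p.primeCompl M) h

theorem exists_powers [Finite ι] [Module.FinitePresentation A M] {s : ι → M} {p : Ideal A} [p.IsPrime]
    (h : Bs (Localization p.primeCompl) (fun i => LocalizedModule.mkLinearMap p.primeCompl M (s i))) :
    ∃ g ∉ p, Bs (Localization (Submonoid.powers g)) (fun i => LocalizedModule.mkLinearMap (Submonoid.powers g) M (s i)) := by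
  rw [bs_localized_iff] at h
  obtain ⟨g, hg, h3⟩ := exists_powers_aux (Finsupp.linearCombination A s) h
  exact ⟨g, hg, (bs_localized_iff _ _).2 h3⟩

theorem bijective_of_loc_aux {P : Type u} [AddCommGroup P] [Module A P] (l : P →ₗ[A] M)
    (h : ∀ (J : Ideal A) [J.IsMaximal], Function.Bijective (LocalizedModule.map J.primeCompl l)) : Function.Bijective l :=
  bijective_of_localized_maximal l h

/-- A family of a finitely presented flat module which is a basis over a field-valued point is a basis near the point. -/
theorem Bs.exists_of_field [Finite ι] (h₁ : Module.FinitePresentation A M) (h₂ : Module.Flat A M) {L : Type u} [Field L]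
    {V : Type u} [AddCommGroup V] [Module L V] {φ : A →+* L} {f : M →+ V} (hf : IsBC φ f) {s : ι → M}
    (h : Bs L (fun i => f (s i))) :
    ∃ g : A, φ g ≠ 0 ∧ ∀ {B : Type u} [CommRing B] {N : Type u} [AddCommGroup N] [Module B N] (ψ : A →+* B) (f' : M →+ N),
      IsBC ψ f' → IsUnit (ψ g) → Bs B (fun i => f' (s i)) := by
  have hp : (RingHom.ker φ).IsPrime := RingHom.ker_isPrime φ
  obtain ⟨p, hpk⟩ : ∃ p, p = RingHom.ker φ := ⟨_, rfl⟩
  rw [← hpk] at hp
  have hT : ∀ y : p.primeCompl, IsUnit (φ y) := fun y => by
    rw [isUnit_iff_ne_zero]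
    exact fun h => y.2 (hpk.ge h)
  let φp : Localization.AtPrime p →+* L := IsLocalization.lift (M := p.primeCompl) hT
  have hφp : φp.comp (algebraMap A (Localization.AtPrime p)) = φ := IsLocalization.lift_comp hT
  obtain ⟨fp, hfp, hfp'⟩ := exists_fac (isBC_mk p.primeCompl M) hf φp hφp
  haveI hloc : IsLocalHom φp := isLocalHom_lift hpk.symm φp hφp
  have h1 : Bs L (fun i => fp (LocalizedModule.mkLinearMap p.primeCompl M (s i))) := by
    have e : (fun i => fp (LocalizedModule.mkLinearMap p.primeCompl M (s i))) = fun i => f (s i) := by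
      funext i
      exact hfp' _
    rw [e]
    exact h
  haveI : Module.Flat (Localization.AtPrime p) (LocalizedModule p.primeCompl M) := inferInstance
  haveI : Module.Finite (Localization.AtPrime p) (LocalizedModule p.primeCompl M) := inferInstance
  have h2 : Bs (Localization p.primeCompl) (fun i => LocalizedModule.mkLinearMap p.primeCompl M (s i)) :=
    bs_of_local (R := Localization.AtPrime p) φp hfp h1
  obtain ⟨g, hg, h3⟩ := exists_powers h2
  exact ⟨g, fun h => hg (hpk.ge h), fun {B} _ {N} _ _ ψ f' hf' hu => bs_of_powers h3 hf' hu⟩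

theorem bs_of_forall_max {s : ι → M} (h : ∀ (J : Ideal A) [J.IsMaximal],
    Bs (Localization J.primeCompl) (fun i => LocalizedModule.mkLinearMap J.primeCompl M (s i))) : Bs A s := by
  have h1 : ∀ (J : Ideal A) [J.IsMaximal],
      Function.Bijective (LocalizedModule.map J.primeCompl (Finsupp.linearCombination A s)) := by
    intro J hJ
    exact (bs_localized_iff _ _).1 (h J)
  exact bijective_of_loc_aux (Finsupp.linearCombination A s) h1

/-- A family of a finitely presented flat module which is a basis over all residue fields is a basis. -/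
theorem Bs.of_forall_field [Finite ι] (h₁ : Module.FinitePresentation A M) (h₂ : Module.Flat A M) {s : ι → M}
    (h : ∀ (p : Ideal A) (_ : p.IsPrime), ∃ (L : Type u) (_ : Field L) (V : Type u) (_ : AddCommGroup V) (_ : Module L V)
      (φ : A →+* L) (f : M →+ V), RingHom.ker φ = p ∧ IsBC φ f ∧ Bs L (fun i => f (s i))) : Bs A s := by
  refine bs_of_forall_max fun J hJ => ?_
  obtain ⟨L, _, V, _, _, φ, f, hk, hf, hs⟩ := h J hJ.isPrime
  obtain ⟨g, hg, H⟩ := Bs.exists_of_field h₁ h₂ hf hs
  have hu : IsUnit (algebraMap A (Localization J.primeCompl) g) :=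
    IsLocalization.map_units (M := J.primeCompl) (Localization J.primeCompl) ⟨g, fun hgJ => hg (hk.ge hgJ)⟩
  have h3 := H (B := Localization J.primeCompl) (N := LocalizedModule J.primeCompl M) (algebraMap A (Localization J.primeCompl))
    (LocalizedModule.mkLinearMap J.primeCompl M).toAddMonoidHom (isBC_mk J.primeCompl M) hu
  exact h3

end K815.BasisAlg
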