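import Groth.Agent.StMod.K815.Loc
import Groth.Agent.StMod.K907.GoodFp
import Groth.Agent.StMod.K907.EtNhd
import Groth.Agent.AlgSt.K735.Top

/-!
# Étale neighbourhoods through points, open sets of points hit by étale objects (helper815)

* `exists_common_nhd`: an object `z` of `ofSp M` and an étale `E` with points of the same class have a common étale
  neighbourhood over `z`;
* `isOpen_hit`: the set of points of `|M|` hit by a class of étale affine objects is open;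
* `mem_hit`: if closed points of `|𝒳|` are hit, every point of `|M|` is hit.
-/

set_option autoImplicit false
set_option linter.unusedVariables false
set_option linter.style.haveILetI false
set_option backward.isDefEq.respectTransparency false
set_option backward.isDefEq.respectTransparency.types false

universe w' v' w v u

open CategoryTheory CategoryTheory.Limits AlgebraicGeometry Opposite StMod AlgSt AlgSp TopologicalSpace

namespace K815.Cover

open K594.Elem K594.Cover K597.FibF K597.EffDesc K597.Affine K907.Pt K907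

variable {S : Scheme.{u}} {M : Sp S}

theorem exists_common_nhd (E : EtOver M) (z : (ofSp M).obj) (t : ↥z.base.left) (y : ↥(etaOf E).base.left)
    (h : pt FibTerm.isFibGrpd_ofSp z t = pt FibTerm.isFibGrpd_ofSp (etaOf E) y) :
    ∃ (z' : (ofSp M).obj) (a : z' ⟶ z) (b : z' ⟶ etaOf E), IsAffine z'.base.left ∧ Etale a.hom.left ∧
      t ∈ Set.range a.hom.left := by
  obtain ⟨r, a, b, -⟩ := (K735.Pts.mk_eq_mk_iff FibTerm.isFibGrpd_ofSp).1 h
  let α : r.obj ⟶ z := a ≫ fptArr FibTerm.isFibGrpd_ofSp z t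
  let β : r.obj ⟶ etaOf E := b ≫ fptArr FibTerm.isFibGrpd_ofSp (etaOf E) y
  obtain ⟨T, c, ζ, hT, hc⟩ := RepWith.exists_isRep E.property z.sec
  obtain ⟨k, hk, -⟩ := hT.lift α.hom ⟨β.hom⟩ (by
    rw [yonEquiv_apply]
    exact β.map_sec.trans α.map_sec.symm)
  have hα : α.hom.left (ptt r) = t := by
    have h1 : bmap (ofSp M) (fptArr FibTerm.isFibGrpd_ofSp z t) (bmap (ofSp M) a (ptt r)) = t := by
      rw [eq_ptt _ (bmap (ofSp M) a (ptt r))]
      exact bmap_fptArr_ptt _ _ _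
    exact h1
  obtain ⟨ζ⟩ := ζ
  let t' : ↥T.left := k.left (ptt r)
  obtain ⟨V, v, hV, hv, ⟨s, hs⟩, -⟩ := exists_affine_nhd T ⊤ t' trivial
  refine ⟨⟨V, M.obj.map (v ≫ c).op z.sec⟩, ⟨v ≫ c, rfl⟩, ⟨v ≫ ζ, ?_⟩, hV, ?_, ⟨s, ?_⟩⟩
  · change M.obj.map (v ≫ ζ).op (secEquiv E.obj.hom) = M.obj.map (v ≫ c).op z.sec
    rw [map_comp_apply, map_comp_apply]
    congr 1
    rw [← hT.w]
    exact (yonEquiv_apply E.obj.hom ζ).symm
  · rw [Over.comp_left]
    infer_instance
  · change (v ≫ c).left s = t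
    rw [Over.comp_left, Scheme.Hom.comp_apply, hs, ← hα, ← hk]
    rfl

/-- The points hit by a class of étale affine objects. -/
def Hit (P : EtOver M → Prop) : Set (Points (ofSp M)) :=
  {x | ∃ E : EtOver M, IsAffine E.obj.left.left ∧ P E ∧ ∃ y : ↥(etaOf E).base.left,
    x = pt FibTerm.isFibGrpd_ofSp (etaOf E) y}

theorem isOpen_hit (P : EtOver M → Prop) : IsOpen (Hit P) := by
  rw [AlgSt.Points.isOpen_iff]
  intro U x hx
  rw [isOpen_iff_mem_nhds]
  rintro u ⟨E, hE, hP, y, hy⟩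
  let z : (ofSp M).obj := x.obj (Over.mk (𝟙 U))
  let κ : z.base.left ⟶ U.left := (eqToHom (x.w_obj (Over.mk (𝟙 U))) : (ofSp M).p.obj (x.obj (Over.mk (𝟙 U))) ⟶ U).left
  haveI : IsIso κ := K906.Span.isIso_left (eqToIso (x.w_obj (Over.mk (𝟙 U))))
  let s : ↥z.base.left := (inv κ) u
  have hs : κ s = u := by
    change (inv κ ≫ κ) u = u
    rw [IsIso.inv_hom_id]
    rfl
  have h1 := ofChart_eq FibTerm.isFibGrpd_ofSp x u s hs
  obtain ⟨z', a, b, hz', ha, ⟨w, hw⟩⟩ := exists_common_nhd E z s y (h1.symm.trans hy)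
  haveI := ha
  have hopen : IsOpen (Set.range (a.hom.left ≫ κ)) := (a.hom.left ≫ κ).isOpenMap.isOpen_range
  refine Filter.mem_of_superset (hopen.mem_nhds ⟨w, ?_⟩) ?_
  · rw [Scheme.Hom.comp_apply, hw, hs]
  · rintro _ ⟨w', rfl⟩
    refine ⟨E, hE, hP, b.hom.left w', ?_⟩
    have h2 := ofChart_eq FibTerm.isFibGrpd_ofSp x ((a.hom.left ≫ κ) w') (a.hom.left w') rfl
    refine h2.trans ?_
    exact (pt_map FibTerm.isFibGrpd_ofSp a w').trans (pt_map FibTerm.isFibGrpd_ofSp b w').symm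

section

variable [QuasiSeparatedSpace S] {𝒳 : AlgSt.Cat S} (h𝒳 : IsAlgStack Scheme.fppfPrecoverage 𝒳)
  (M : Space S) (hM : IsQuasiSeparatedSp M.obj) (π : 𝒳 ⥤ᵇ ofSp M.obj)
  (hqc : IsQuasiCompactMor Scheme.fppfPrecoverage π) (hqs : IsQuasiSeparatedMor π)

include h𝒳 hM hqc hqs in
/-- If the images of all closed points of `|𝒳|` are hit, all points of `|M|` are hit. -/
theorem mem_hit (h : IsGoodModuli π) (P : EtOver M.obj → Prop)
    (hcp : ∀ W : Set (AlgSt.Points 𝒳), IsClosed W → W.Nonempty → ∃ x ∈ W, IsClosed ({x} : Set (AlgSt.Points 𝒳)))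
    (hP : ∀ x : AlgSt.Points 𝒳, IsClosed ({x} : Set (AlgSt.Points 𝒳)) → AlgSt.Points.map π x ∈ Hit P)
    (m : AlgSt.Points (ofSp M.obj)) : m ∈ Hit P := by
  by_contra hm
  have hcont : Continuous (AlgSt.Points.map π) :=
    K735.Top.continuous_map (K735.Top.chartCont_of_isAlgStack (K740.SpDM.isAlgStack_ofSp M.property)) π
  obtain ⟨x, rfl⟩ := GoodFp.isSurjective h𝒳 M hM π hqc hqs h m
  obtain ⟨x', hx', hcl⟩ := hcp (AlgSt.Points.map π ⁻¹' (Hit P)ᶜ) ((isOpen_hit P).isClosed_compl.preimage hcont) ⟨x, hm⟩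
  exact hx' (hP x' hcl)

end

/-- A field-valued point of `𝒳` has an object over an étale affine object of `M`. -/
theorem exists_obj_over {𝒳 : BasedCategory.{v, w} (Over S)} (h𝒳 : FibCat.IsFibGrpd 𝒳.p) (hM : IsAlgSpace M)
    (π : 𝒳 ⥤ᵇ ofSp M) (x : AlgSt.Points 𝒳) :
    ∃ (E : EtOver M) (_ : IsAffine E.obj.left.left) (ξ : 𝒳.obj) (_ : IsAffine (sch 𝒳 ξ)) (α : π.obj ξ ⟶ etaOf E)
      (t : ↥(sch 𝒳 ξ)), pt h𝒳 ξ t = x := by
  obtain ⟨p, rfl⟩ := AlgSt.Points.mk_surjective x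
  let t₀ : ↥(π.obj p.obj).base.left := ptt (p.map π)
  obtain ⟨E, hE, m', a, b, hm', ha, ⟨s, hs⟩⟩ := EtNhd.exists_etale_nhd hM (π.obj p.obj) t₀
  obtain ⟨ξ, φ, i, hi, hc⟩ := K907.Disj.exists_lift_fun h𝒳 FibTerm.isFibGrpd_ofSp π (x := p.obj) a
  have hiso' : IsIso (baseOver π ξ i).left := K907.Disj.baseOver_isIso π i
  have hm'' : IsAffine ((ofSp M).p.obj m').left := hm'
  have haff : IsAffine (sch 𝒳 ξ) := IsAffine.of_isIso (baseOver π ξ i).left
  let t : ↥(sch 𝒳 ξ) := (inv (baseOver π ξ i).left) s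
  refine ⟨E, hE, ξ, haff, i ≫ b, t, ?_⟩
  rw [← pt_map h𝒳 φ t]
  exact (K907.Disj.mk_eq_pt_self h𝒳 p _).symm

end K815.Cover
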