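import Groth.Agent.StMod.K815.BasisAlg
import Groth.Agent.StMod.K908.Comap
import Groth.Agent.StMod.K907.Sec
import Groth.Prelude.Def_StMod3
import Groth.Prelude.Def_AlgSt

/-!
# The standard basis of a free module on a stack (helper815)

* `fe`, `bs_fe`, `mapTop_fe`: the standard basis of `StMod.free 𝒳 I`;
* `bs_of_iso`: transport of bases along isomorphisms of quasi-coherent modules;
* `exists_basis_of_iso`: an isomorphism `F|_Q ≅ O^I` on a full subcategory gives compatible bases of `F` over the objects of `Q`.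
-/

set_option autoImplicit false
set_option linter.unusedVariables false
set_option linter.style.haveILetI false
set_option backward.isDefEq.respectTransparency false
set_option backward.isDefEq.respectTransparency.types false

universe w v u

open CategoryTheory CategoryTheory.Limits AlgebraicGeometry Opposite StMod

namespace K815.FreeBs

open K815.BasisAlg

section Scheme

variable (X : Scheme.{u}) {I : Type u}

/-- The unit section of the structure sheaf. -/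
def oneS : Γ(Coh.structureModule X, ⊤) := (show Γ(X, ⊤) from 1)

/-- The basis sections. -/
noncomputable def fe (i : I) : Γ(StMod.freeMod X I, ⊤) := (ιfree X i).app ⊤ (oneS X)

open Classical in
/-- The coordinate projections. -/
noncomputable def pr (j : I) : StMod.freeMod X I ⟶ Coh.structureModule X :=
  freeDesc X fun i => if i = j then 𝟙 _ else 0

open Classical in
theorem pr_fe (i j : I) : (pr X j).app ⊤ (fe X i) = if i = j then oneS X else 0 := by
  have h : (pr X j).app ⊤ (fe X i) = (ιfree X i ≫ pr X j).app ⊤ (oneS X) := rfl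
  rw [h, pr, ιfree_freeDesc]
  split_ifs
  · rfl
  · rfl

theorem sum_pr_ι [Fintype I] : ∑ j : I, pr X j ≫ ιfree X j = 𝟙 (StMod.freeMod X I) := by
  classical
  apply freeMod_hom_ext
  intro i
  rw [Preadditive.comp_sum, Category.comp_id, Finset.sum_eq_single i]
  · rw [← Category.assoc, pr, ιfree_freeDesc, if_pos rfl, Category.id_comp]
  · intro j _ hj
    rw [← Category.assoc, pr, ιfree_freeDesc, if_neg (Ne.symm hj), zero_comp]
  · intro h
    exact absurd (Finset.mem_univ _) h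

theorem sum_coord [Fintype I] (s : Γ(StMod.freeMod X I, ⊤)) :
    ∑ j : I, (show Γ(X, ⊤) from (pr X j).app ⊤ s) • fe X j = s := by
  have h : (∑ j : I, pr X j ≫ ιfree X j).app ⊤ s = s := by
    rw [sum_pr_ι]
    rfl
  refine Eq.trans ?_ h
  have key : ∀ (T : Finset I), (∑ j ∈ T, pr X j ≫ ιfree X j).app ⊤ s = ∑ j ∈ T, (pr X j ≫ ιfree X j).app ⊤ s := by
    classical
    intro T
    induction T using Finset.induction_on with
    | empty => rfl
    | insert a T ha ih =>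
      rw [Finset.sum_insert ha, Finset.sum_insert ha, ← ih]
      rfl
  rw [key]
  refine Finset.sum_congr rfl fun j _ => ?_
  change _ = (ιfree X j).app ⊤ ((pr X j).app ⊤ s)
  have e1 : (pr X j).app ⊤ s = (show Γ(X, ⊤) from (pr X j).app ⊤ s) • oneS X :=
    (mul_one (show Γ(X, ⊤) from (pr X j).app ⊤ s)).symm
  rw [e1, Scheme.Modules.Hom.app_smul]
  have e2 : (show Γ(X, ⊤) from (show Γ(X, ⊤) from (pr X j).app ⊤ s) • oneS X) = (pr X j).app ⊤ s :=
    mul_one (show Γ(X, ⊤) from (pr X j).app ⊤ s)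
  change (show Γ(X, ⊤) from (show Γ(X, ⊤) from (pr X j).app ⊤ s) • oneS X) • fe X j = _
  rw [e2]
  rfl

theorem bs_fe [Finite I] : Bs Γ(X, ⊤) (fe X : I → Γ(StMod.freeMod X I, ⊤)) := by
  classical
  haveI := Fintype.ofFinite I
  constructor
  · rw [injective_iff_map_eq_zero]
    intro x hx
    ext j
    let L : Γ(StMod.freeMod X I, ⊤) →ₗ[Γ(X, ⊤)] Γ(X, ⊤) :=
      { toFun := fun s => (pr X j).app ⊤ s
        map_add' := fun a b => map_add ((pr X j).app ⊤).hom a b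
        map_smul' := fun r a => (pr X j).app_smul r a }
    have h1 : L (Finsupp.linearCombination Γ(X, ⊤) (fe X) x) = x j := by
      rw [Finsupp.linearCombination_apply, Finsupp.sum, map_sum]
      have h2 : ∀ i, L (x i • fe X i) = if i = j then x i else 0 := by
        intro i
        rw [map_smul]
        have : L (fe X i) = if i = j then 1 else 0 := by
          refine (pr_fe X i j).trans ?_
          split_ifs <;> rfl
        rw [this]
        split_ifs
        · exact mul_one _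
        · exact mul_zero _
      rw [Finset.sum_congr rfl fun i _ => h2 i, Finset.sum_ite_eq']
      split_ifs with h
      · rfl
      · exact (Finsupp.notMem_support_iff.1 h).symm
    rw [hx, map_zero] at h1
    exact h1.symm
  · intro s
    let c : I → Γ(X, ⊤) := fun j => (pr X j).app ⊤ s
    refine ⟨Finsupp.equivFunOnFinite.symm c, ?_⟩
    rw [Finsupp.linearCombination_apply]
    refine (Finsupp.sum_fintype (Finsupp.equivFunOnFinite.symm c) (fun i a => a • fe X i)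
      (fun i => zero_smul Γ(X, ⊤) (fe X i))).trans ?_
    exact sum_coord X s

end Scheme

variable {S : Scheme.{u}} {𝒳 : BasedCategory.{v, w} (Over S)}

theorem mapTop_fe {I : Type u} {ξ' ξ : 𝒳.obj} (φ : ξ' ⟶ ξ) (i : I) :
    (StMod.free 𝒳 I).mapTop φ (fe (sch 𝒳 ξ) i) = fe (sch 𝒳 ξ') i := by
  have h1 : (StMod.free 𝒳 I).mapTop φ (fe (sch 𝒳 ξ) i) = (ιfree (sch 𝒳 ξ) i ≫ freeMap (bmap 𝒳 φ) I).app ⊤ (oneS _) := rfl
  rw [h1, ιfree_freeMap]
  change (ιfree (sch 𝒳 ξ') i).app ⊤ ((unitMap (bmap 𝒳 φ)).app ⊤ (oneS _)) = (ιfree (sch 𝒳 ξ') i).app ⊤ (oneS _)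
  congr 1
  exact map_one (bmap 𝒳 φ).appTop.hom

/-- An isomorphism `F|_Q ≅ O^I` gives compatible bases of `F` over the objects of `Q`. -/
theorem exists_basis_of_iso {Q : 𝒳.obj → Prop} (F : QCoh 𝒳) {I : Type u} [Finite I]
    (θ : (comapQ (AlgSt.subIncl 𝒳 Q)).obj F ≅ freeQ (AlgSt.fullSub 𝒳 Q) I) :
    ∃ b : I → ∀ y : 𝒳.obj, Q y → Γ(F.obj.obj y, ⊤),
      (∀ (i : I) ⦃y' y : 𝒳.obj⦄ (φ : y' ⟶ y) (h' : Q y') (h : Q y), F.obj.mapTop φ (b i y h) = b i y' h') ∧
      ∀ (y : 𝒳.obj) (h : Q y), Bs Γ(sch 𝒳 y, ⊤) (fun i => b i y h) := by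
  let u : StMod.free (AlgSt.fullSub 𝒳 Q) I ⟶ Mod.comap (AlgSt.subIncl 𝒳 Q) F.obj := θ.inv.hom
  let u' : Mod.comap (AlgSt.subIncl 𝒳 Q) F.obj ⟶ StMod.free (AlgSt.fullSub 𝒳 Q) I := θ.hom.hom
  have huu' : u ≫ u' = 𝟙 _ := congrArg (fun k : freeQ (AlgSt.fullSub 𝒳 Q) I ⟶ _ => k.hom) θ.inv_hom_id
  have hu'u : u' ≫ u = 𝟙 _ := congrArg (fun k : (comapQ (AlgSt.subIncl 𝒳 Q)).obj F ⟶ _ => k.hom) θ.hom_inv_id
  let b : I → ∀ y : 𝒳.obj, Q y → Γ(F.obj.obj y, ⊤) := fun i y h =>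
    (K908.Comap.ct (AlgSt.subIncl 𝒳 Q) F.obj (⟨y, h⟩ : (AlgSt.fullSub 𝒳 Q).obj)).symm
      ((u.app (⟨y, h⟩ : (AlgSt.fullSub 𝒳 Q).obj)).app ⊤ (fe (sch 𝒳 y) i))
  refine ⟨b, ?_, ?_⟩
  · intro i y' y φ h' h
    let φ' : (⟨y', h'⟩ : (AlgSt.fullSub 𝒳 Q).obj) ⟶ (⟨y, h⟩ : (AlgSt.fullSub 𝒳 Q).obj) := ObjectProperty.homMk φ
    have h1 := K908.Comap.ct_symm_mapTop (f := AlgSt.subIncl 𝒳 Q) F.obj φ'
      ((u.app (⟨y, h⟩ : (AlgSt.fullSub 𝒳 Q).obj)).app ⊤ (fe (sch 𝒳 y) i))
    refine Eq.trans h1.symm ?_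
    change _ = (K908.Comap.ct (AlgSt.subIncl 𝒳 Q) F.obj (⟨y', h'⟩ : (AlgSt.fullSub 𝒳 Q).obj)).symm
      ((u.app (⟨y', h'⟩ : (AlgSt.fullSub 𝒳 Q).obj)).app ⊤ (fe (sch 𝒳 y') i))
    congr 1
    rw [Mod.mapTop_app]
    congr 1
    exact mapTop_fe (𝒳 := AlgSt.fullSub 𝒳 Q) φ' i
  · intro y h
    let y₁ : (AlgSt.fullSub 𝒳 Q).obj := ⟨y, h⟩
    let f : Γ(StMod.freeMod (sch 𝒳 y) I, ⊤) →+ Γ(F.obj.obj y, ⊤) :=
      (K908.Comap.ct (AlgSt.subIncl 𝒳 Q) F.obj y₁).symm.toAddMonoidHom.comp ((u.app y₁).app ⊤).hom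
    have hf : Function.Bijective f := by
      refine (K908.Comap.ct (AlgSt.subIncl 𝒳 Q) F.obj y₁).symm.bijective.comp ?_
      refine Function.bijective_iff_has_inverse.2 ⟨(u'.app y₁).app ⊤, fun x => ?_, fun x => ?_⟩
      · change ((u ≫ u').app y₁).app ⊤ x = x
        rw [huu']
        rfl
      · change ((u' ≫ u).app y₁).app ⊤ x = x
        rw [hu'u]
        rfl
    refine Bs.of_bijective (φ := RingHom.id Γ(sch 𝒳 y, ⊤)) Function.bijective_id hf (fun r x => ?_) (bs_fe (sch 𝒳 y))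
    change (K908.Comap.ct (AlgSt.subIncl 𝒳 Q) F.obj y₁).symm ((u.app y₁).app ⊤ (r • x)) =
      r • (K908.Comap.ct (AlgSt.subIncl 𝒳 Q) F.obj y₁).symm ((u.app y₁).app ⊤ x)
    rw [AddEquiv.symm_apply_eq, K908.Comap.ct_smul, AddEquiv.apply_symm_apply]
    refine (Scheme.Modules.Hom.app_smul (u.app y₁) r x).trans ?_
    congr 1

end K815.FreeBs
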