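import Groth.Agent.AlgSt.K737.SubDesc
import Groth.Agent.AlgSt.K742.LN
import Groth.Agent.Gerb.K893.Singleton
import Groth.Agent.Gerb.K893.Sub
import Groth.Agent.Gerb.K893.MonoPt
import Groth.Agent.Gerb.K893.PtInj
import Groth.Agent.Gerb.K893.Chart
import Groth.Agent.Gerb.K893.RowsA
import Groth.Agent.S12840
import Groth.Prelude.Def_StGerb

/-!
# The residual gerbe at a closed point of a locally Noetherian stack is a closed substack (helper815)

* `le_of_point`: if `fullSub 𝒳 Q₁` has a flat, lfp, surjective field-valued point lying in `Q₂`, then `Q₁ ≤ Q₂`;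
* `mem_of_points`: field-valued objects over the point of a residual gerbe lie in it;
* `hasLoci_of_isResGerbe`: `Q` has closed loci.
-/

set_option autoImplicit false
set_option backward.isDefEq.respectTransparency false
set_option backward.isDefEq.respectTransparency.types false

universe u

open CategoryTheory CategoryTheory.Limits AlgebraicGeometry Opposite

namespace K815.ResCl

variable {S : Scheme.{u}} {𝒳 : AlgSt.Cat S}

/-- A full substack with a flat, locally finitely presented, surjective field-valued point lying in `Q₂` is contained in `Q₂`. -/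
theorem le_of_point (h𝒳 : AlgSt.IsAlgStack Scheme.fppfPrecoverage 𝒳) {Q₁ Q₂ : 𝒳.obj → Prop}
    (hA₁ : AlgSt.IsAlgStack Scheme.fppfPrecoverage (AlgSt.fullSub 𝒳 Q₁))
    (hi₂ : ObjectProperty.IsClosedUnderIsomorphisms Q₂)
    (hA₂ : AlgSt.IsAlgStack Scheme.fppfPrecoverage (AlgSt.fullSub 𝒳 Q₂))
    {k : Type u} [Field k] {a : Spec (CommRingCat.of k) ⟶ S}
    (z : FibCat.overCat (Over.mk a) ⥤ᵇ AlgSt.fullSub 𝒳 Q₁)
    (h1 : AlgSt.RepByAlgSpWith (AlgSp.LocP @LocallyOfFinitePresentation) z)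
    (h2 : AlgSt.RepByAlgSpWith AlgSp.IsSurjectiveMor z) (h3 : AlgSt.RepByAlgSpWith (AlgSp.LocP @Flat) z)
    (hz : Q₂ (z.obj (Over.mk (𝟙 (Over.mk a)))).obj) (ξ : 𝒳.obj) (hξ : Q₁ ξ) : Q₂ ξ := by
  have hO : FibCat.IsFibGrpd (FibCat.overCat (Over.mk a)).p := K735.Fp.isFibGrpd_overCat _
  have hL := K893.Chart.locSurjObj hO hA₁.isStack.1 h2 h3 h1
  obtain ⟨R, hR, h⟩ := hL ⟨ξ, hξ⟩
  refine K893.Sub.mem_of_local h𝒳.isStack.1 (h𝒳.isStack.2 R hR) hi₂ (hA₂.isStack.2 R hR) ξ rfl fun V f hf => ?_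
  obtain ⟨x, g, hg⟩ := h f hf
  refine ⟨(z.obj x).obj, g.hom, ?_, ?_⟩
  · exact BasedFunctor.preserves_isHomLift (AlgSt.subIncl 𝒳 Q₁) f g
  · exact K893.Sub.of_hom h𝒳.isStack.1 hi₂ hA₂.isStack.1 (z.map (Over.homMk x.hom : x ⟶ Over.mk (𝟙 (Over.mk a)))).hom hz

/-- Field-valued objects over a point of a full substack lie in the substack. -/
theorem mem_of_points (h𝒳 : AlgSt.IsAlgStack Scheme.fppfPrecoverage 𝒳) {Q : 𝒳.obj → Prop}
    (hi : ObjectProperty.IsClosedUnderIsomorphisms Q)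
    (hA : AlgSt.IsAlgStack Scheme.fppfPrecoverage (AlgSt.fullSub 𝒳 Q)) {k : Type u} [Field k]
    {a : Spec (CommRingCat.of k) ⟶ S} (z : FibCat.overCat (Over.mk a) ⥤ᵇ 𝒳)
    (hz : ∃ p : AlgSt.Points (FibCat.overCat (Over.mk a)), AlgSt.Points.map z p ∈
      Set.range (AlgSt.Points.map (AlgSt.subIncl 𝒳 Q))) : Q (z.obj (Over.mk (𝟙 (Over.mk a)))) := by
  have hO : FibCat.IsFibGrpd (FibCat.overCat (Over.mk a)).p := K735.Fp.isFibGrpd_overCat _
  obtain ⟨p, q, hpq⟩ := hz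
  have hmono : AlgSt.IsMono (AlgSt.subIncl 𝒳 Q) := by
    have : (AlgSt.subIncl 𝒳 Q).toFunctor.Full := inferInstanceAs (ObjectProperty.ι Q).Full
    have : (AlgSt.subIncl 𝒳 Q).toFunctor.Faithful := inferInstanceAs (ObjectProperty.ι Q).Faithful
    exact Groth.Agent.S12840.result hA h𝒳 _
  obtain ⟨w, -, -⟩ := K735.Pts.exists_fp hA.isStack.1 hO h𝒳.isStack.1 z (AlgSt.subIncl 𝒳 Q) p q hpq.symm
  obtain ⟨w, rfl⟩ := AlgSt.Points.mk_surjective w
  obtain ⟨ζ, φ, -⟩ := K893.Pt.exists_of_mono' hmono a z w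
  exact hi.of_iso φ.symm ζ.property

/-- The residual gerbe at a closed point of a locally Noetherian stack is a closed substack. -/
theorem hasLoci_of_isResGerbe (h𝒳 : AlgSt.IsAlgStack Scheme.fppfPrecoverage 𝒳)
    (hN : AlgSt.SmoothLocally (fun T => IsLocallyNoetherian T) 𝒳) {ξ : AlgSt.Points 𝒳}
    (hξ : IsClosed ({ξ} : Set (AlgSt.Points 𝒳))) {Q : 𝒳.obj → Prop}
    (hQ : Gerb.IsResGerbe Scheme.fppfPrecoverage 𝒳 ξ Q) : K737.Pts.HasLoci @IsClosedImmersion Q := by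
  obtain ⟨hi, hA, hred, hnoe, hne, hsub, hpt⟩ := hQ
  obtain ⟨Q₁, hcl, hrange, hred₁⟩ := K737.SubDesc.exists_reduced_closed h𝒳 {ξ} hξ
  obtain ⟨hi₁, hA₁, hc₁⟩ := id hcl
  -- `Q₁` has one point
  have hinj := K893.Pt.points_map_injective h𝒳.isStack.1 hi₁ hA₁.isStack.1
  have hpt₁ : ∀ p, AlgSt.Points.map (AlgSt.subIncl 𝒳 Q₁) p = ξ := fun p => by
    have : AlgSt.Points.map (AlgSt.subIncl 𝒳 Q₁) p ∈ ({ξ} : Set _) := by rw [← hrange]; exact ⟨p, rfl⟩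
    exact this
  have hsub₁ : Subsingleton (AlgSt.Points (AlgSt.fullSub 𝒳 Q₁)) := ⟨fun p q => hinj ((hpt₁ p).trans (hpt₁ q).symm)⟩
  have hne₁ : Nonempty (AlgSt.Points (AlgSt.fullSub 𝒳 Q₁)) := by
    have : ξ ∈ Set.range (AlgSt.Points.map (AlgSt.subIncl 𝒳 Q₁)) := by rw [hrange]; exact rfl
    obtain ⟨p, -⟩ := this
    exact ⟨p⟩
  have hnoe₁ : AlgSt.SmoothLocally (fun T => IsLocallyNoetherian T) (AlgSt.fullSub 𝒳 Q₁) := by
    refine K742.LN.smoothLocally_LN_of_lft hA₁.isStack.1 (AlgSt.subIncl 𝒳 Q₁)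
      (K742.LN.locQ_lft_of_isImm hA₁ h𝒳 _ ?_) hN
    exact K893.Chart.with_mono (fun _ _ _ h => K609.Points.repWith_mono (P := @IsClosedImmersion)
      (Q := @IsImmersion) (fun k hk => by have : IsClosedImmersion k := hk; infer_instance) h) hc₁
  -- flat points
  obtain ⟨k, _, a, z, hz1, hz2, hz3⟩ := K893.Singleton.one_imp_three hA.isStack.1 (fun U y => K893.RowsA.charts_rep hA U y)
    hA.atlas hred hne hsub
  have hz1' := K893.Singleton.rep_lfp_of_lft hA.isStack.1 (fun U y => K893.RowsA.charts_rep hA U y) hA.atlas hnoe hz1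
  obtain ⟨k₁, _, a₁, z₁, hz₁1, hz₁2, hz₁3⟩ := K893.Singleton.one_imp_three hA₁.isStack.1
    (fun U y => K893.RowsA.charts_rep hA₁ U y) hA₁.atlas hred₁ hne₁ hsub₁
  have hz₁1' := K893.Singleton.rep_lfp_of_lft hA₁.isStack.1 (fun U y => K893.RowsA.charts_rep hA₁ U y) hA₁.atlas hnoe₁ hz₁1
  have e1 : ∀ ζ, Q ζ → Q₁ ζ := by
    refine le_of_point h𝒳 hA hi₁ hA₁ z hz1' hz2 hz3 ?_
    refine mem_of_points h𝒳 hi₁ hA₁ (BasedFunctor.comp z (AlgSt.subIncl 𝒳 Q)) ?_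
    obtain ⟨p⟩ := K893.FieldPt.nonempty_points_spec a
    refine ⟨p, ?_⟩
    rw [K735.Pts.map_comp, hpt, hrange]
    exact rfl
  have e2 : ∀ ζ, Q₁ ζ → Q ζ := by
    refine le_of_point h𝒳 hA₁ hi hA z₁ hz₁1' hz₁2 hz₁3 ?_
    refine mem_of_points h𝒳 hi hA (BasedFunctor.comp z₁ (AlgSt.subIncl 𝒳 Q₁)) ?_
    obtain ⟨p⟩ := K893.FieldPt.nonempty_points_spec a₁
    obtain ⟨q⟩ := hne
    refine ⟨p, q, ?_⟩
    rw [K735.Pts.map_comp, hpt, hpt₁]
  have e : Q₁ = Q := funext fun ζ => propext ⟨e2 ζ, e1 ζ⟩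
  subst e
  exact ((K737.SubSt.isClosedSubstack_iff h𝒳 _).1 hcl).2

end K815.ResCl
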