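import Groth.Agent.StMod.K815.Cover
import Groth.Agent.StMod.K815.ResCl
import Groth.Agent.StMod.K907.GoodE

/-!
# Vector bundles with trivial restrictions to the residual gerbes at closed points (helper815)

`Gd π F E`: `π_* F` has, over the étale object `E`, a family of sections which is a basis of `F` over all affine objects over `E`.
* `exists_gd_nbhd`: near the image of a closed point of `|𝒳|` there are such `E`;
* `exists_gd_cover`: étale locally on every object of `ofSp M` there are such `E`.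
-/

set_option autoImplicit false
set_option linter.unusedVariables false
set_option linter.style.haveILetI false
set_option backward.isDefEq.respectTransparency false
set_option backward.isDefEq.respectTransparency.types false

universe w' v' w v u

open CategoryTheory CategoryTheory.Limits AlgebraicGeometry Opposite StMod AlgSt AlgSp TopologicalSpace

namespace K815.Good

open K815.Loc K815.Cover K815.QLoc K907.Pt K907.Closed K907.Atl K907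

variable {S : Scheme.{u}}

/-- `F` has a basis of relative sections over `E`. -/
def Gd {𝒳 : BasedCategory.{v, w} (Over S)} {M : Sp S} (π : 𝒳 ⥤ᵇ ofSp M) (F : QCoh 𝒳) (E : EtOver M) : Prop :=
  ∃ (n : ℕ) (s : ULift.{u} (Fin n) → Mod.RelSect π F.obj (etaOf E)), GoodFam π F s

/-- Field-valued objects over the point of a residual gerbe lie in it. -/
theorem q_of_mk_eq {𝒳 : AlgSt.Cat S} (h𝒳 : IsAlgStack Scheme.fppfPrecoverage 𝒳) {ξ₀ : AlgSt.Points 𝒳}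
    {Q : 𝒳.obj → Prop} (hQ : Gerb.IsResGerbe Scheme.fppfPrecoverage 𝒳 ξ₀ Q) (p : FPt 𝒳)
    (hp : AlgSt.Points.mk p = ξ₀) : Q p.obj := by
  obtain ⟨hi, hA, hred, hnoe, ⟨q⟩, hsub, hpt⟩ := hQ
  obtain ⟨y, e, -⟩ := K737.Core.exists_yo h𝒳.isStack.1 p.obj p.lies
  refine hi.of_iso e ?_
  refine ResCl.mem_of_points h𝒳 hi hA y ?_
  obtain ⟨p₀⟩ := K893.FieldPt.nonempty_points_spec p.str
  let r : FPt (FibCat.overCat (Over.mk p.str)) := { K := p.K, str := p.str, obj := Over.mk (𝟙 (Over.mk p.str)), lies := rfl }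
  refine ⟨AlgSt.Points.mk r, q, ?_⟩
  rw [hpt, ← hp]
  exact (K735.Pts.mk_eq_of_hom (p := r.map y) (q := p) e.hom).symm

/-- A closed set of points has closed preimages in affine objects. -/
theorem isCl_of_isClosed {𝒳 : AlgSt.Cat S} (h𝒳 : IsAlgStack Scheme.fppfPrecoverage 𝒳) {W : Set (AlgSt.Points 𝒳)}
    (hW : IsClosed W) : IsCl h𝒳.isStack.1 W := by
  obtain ⟨U, x, h1, h2⟩ := h𝒳.atlas
  obtain ⟨A, hA⟩ := Chart.exists_smAtlas_etale h𝒳.isStack.1 x h1 h2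
  refine isCl_of_atlas h𝒳.isStack.1 (smCov_of_smAtlas A) fun j => ?_
  obtain ⟨c, -⟩ := hA j
  exact isClosed_setOf_pt h𝒳.isStack.1 x h1 c hW

section

variable [QuasiSeparatedSpace S] {𝒳 : AlgSt.Cat S} (h𝒳 : IsAlgStack Scheme.fppfPrecoverage 𝒳)
  (M : Space S) (hM : IsQuasiSeparatedSp M.obj) (π : 𝒳 ⥤ᵇ ofSp M.obj)
  (hqc : IsQuasiCompactMor Scheme.fppfPrecoverage π) (hqs : IsQuasiSeparatedMor π)

include h𝒳 hM hqc hqs in
/-- Good neighbourhoods of the images of closed points. -/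
theorem exists_gd_nbhd (h : IsGoodModuli π) (hN : SmoothLocally (fun T => IsLocallyNoetherian T) 𝒳)
    (F : QCoh 𝒳) (hF : F.obj.IsLocFree) (hF' : F.obj.IsFinType) {ξ₀ : AlgSt.Points 𝒳}
    (hξ₀ : IsClosed ({ξ₀} : Set (AlgSt.Points 𝒳))) {Q : 𝒳.obj → Prop}
    (hQ : Gerb.IsResGerbe Scheme.fppfPrecoverage 𝒳 ξ₀ Q) {n : ℕ}
    (θ : Nonempty ((comapQ (subIncl 𝒳 Q)).obj F ≅ freeQ (fullSub 𝒳 Q) (ULift.{u} (Fin n)))) :
    AlgSt.Points.map π ξ₀ ∈ Hit (M := M.obj) (Gd π F) := by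
  obtain ⟨θ⟩ := θ
  have hClQ : IsClQ Q := isClQ_of_hasLoci h𝒳.isStack.1 hQ.1 (ResCl.hasLoci_of_isResGerbe h𝒳 hN hξ₀ hQ)
  obtain ⟨b, hb, hbs⟩ := FreeBs.exists_basis_of_iso F θ
  obtain ⟨E, hE, ξ₁, hξ₁, α₁, t₁, ht₁⟩ := exists_obj_over h𝒳.isStack.1 M.property π ξ₀
  obtain ⟨m', k, s, hm', hk, hma, ⟨y, hy⟩, hs⟩ := exists_goodFam h𝒳.isStack.1 hClQ (isCl_of_isClosed h𝒳 hξ₀)
    (q_of_mk_eq h𝒳 hQ) hF hF' b hb hbs h.1 h.2
    (fun E hE => GM.exact_and_pres h𝒳 hM hqc hqs h.1 E hE) (K906.SpGeo.isEt_etaOf E) hE hξ₁ α₁ t₁ ht₁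
  obtain ⟨E', rfl⟩ := K906.SpGeo.exists_etaOf hm'
  refine ⟨E', hma, ⟨n, s, hs⟩, y, ?_⟩
  have h1 := map_pt h𝒳.isStack.1 FibTerm.isFibGrpd_ofSp π α₁ t₁
  rw [ht₁] at h1
  rw [h1, ← hy]
  exact pt_map FibTerm.isFibGrpd_ofSp k y

include h𝒳 hM hqc hqs in
/-- Étale locally on every object of `ofSp M` there are good étale objects. -/
theorem exists_gd_cover (h : IsGoodModuli π) (hN : SmoothLocally (fun T => IsLocallyNoetherian T) 𝒳)
    (hcp : ∀ W : Set (AlgSt.Points 𝒳), IsClosed W → W.Nonempty → ∃ x ∈ W, IsClosed ({x} : Set (AlgSt.Points 𝒳)))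
    (F : QCoh 𝒳) (hF : F.obj.IsLocFree) (hF' : F.obj.IsFinType)
    (htriv : ∀ ξ : AlgSt.Points 𝒳, IsClosed ({ξ} : Set (AlgSt.Points 𝒳)) →
      ∃ Q : 𝒳.obj → Prop, Gerb.IsResGerbe Scheme.fppfPrecoverage 𝒳 ξ Q ∧
        ∃ n : ℕ, Nonempty ((comapQ (subIncl 𝒳 Q)).obj F ≅ freeQ (fullSub 𝒳 Q) (ULift.{u} (Fin n))))
    (z : (ofSp M.obj).obj) (t : ↥z.base.left) :
    ∃ (E : EtOver M.obj) (z' : (ofSp M.obj).obj) (a : z' ⟶ z) (b : z' ⟶ etaOf E), IsAffine E.obj.left.left ∧ Gd π F E ∧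
      IsAffine z'.base.left ∧ Etale a.hom.left ∧ t ∈ Set.range a.hom.left := by
  obtain ⟨E, hE, hG, y, hy⟩ := mem_hit h𝒳 M hM π hqc hqs h (Gd π F) hcp (fun ξ₀ hξ₀ => by
    obtain ⟨Q, hQ, n, θ⟩ := htriv ξ₀ hξ₀
    exact exists_gd_nbhd h𝒳 M hM π hqc hqs h hN F hF hF' hξ₀ hQ θ) (pt FibTerm.isFibGrpd_ofSp z t)
  obtain ⟨z', a, b, h1, h2, h3⟩ := exists_common_nhd E z t y hy
  exact ⟨E, z', a, b, hE, hG, h1, h2, h3⟩

end

end K815.Good
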