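import Groth.Agent.StMod.K907.Quot
import Groth.Agent.StMod.K906.Grpd
import Groth.Agent.StMod.K815.ResCl

/-!
# Quotients of modules by closed substacks (helper815)

* `exists_quotObj`, `exists_fac`: closed subobjects of affine objects and factorisations through them;
* `IsClQ Q`: `Q` is stable under sources of arrows and cuts out closed loci in affine objects; `isClQ_of_hasLoci`;
* `exists_restr`: for `F : QCoh 𝒳` and `IsClQ Q` a surjection `q : F ⟶ F'` with `q x = 0 ↔ x` restricts to zero over the objects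
  of `Q`;
* `exists_sections`: compatible sections of `F` over the objects of `Q` give global sections of `F'`.
-/

set_option autoImplicit false
set_option linter.unusedVariables false
set_option linter.style.haveILetI false
set_option backward.isDefEq.respectTransparency false
set_option backward.isDefEq.respectTransparency.types false

universe t w v u

open CategoryTheory CategoryTheory.Limits AlgebraicGeometry Opposite StMod

namespace K815.QLoc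

open Groth.Agent.CohqA.BaseChangeMod K906.Grpd K907.Alg K907.Sec K907.QDesc K907.Quot

section Alg

variable {A B : Type u} [CommRing A] [CommRing B] {M M₁ : Type u} [AddCommGroup M] [Module A M] [AddCommGroup M₁]
  [Module B M₁]

theorem surjective_of_isBC {ψ : A →+* B} {f : M →+ M₁} (h : IsBC ψ f) (hψ : Function.Surjective ψ) :
    Function.Surjective f := by
  intro y
  have hy : y ∈ Submodule.span B (Set.range f) := by rw [span_range h]; trivial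
  induction hy using Submodule.span_induction with
  | mem x hx => exact hx
  | zero => exact ⟨0, map_zero f⟩
  | add x y _ _ hx hy =>
    obtain ⟨a, rfl⟩ := hx
    obtain ⟨b, rfl⟩ := hy
    exact ⟨a + b, map_add f a b⟩
  | smul r x _ hx =>
    obtain ⟨a, rfl⟩ := hx
    obtain ⟨r, rfl⟩ := hψ r
    exact ⟨r • a, h.map_smul r a⟩

theorem mem_smul_top_of_eq_zero {ψ : A →+* B} {f : M →+ M₁} (h : IsBC ψ f) (hψ : Function.Surjective ψ) {x : M}
    (hx : f x = 0) : x ∈ (RingHom.ker ψ • ⊤ : Submodule A M) := by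
  let N : Submodule A M := RingHom.ker ψ • ⊤
  let e : (A ⧸ RingHom.ker ψ) ≃+* B := RingHom.quotientKerEquivOfSurjective hψ
  letI : Module B (M ⧸ N) := Module.compHom (M ⧸ N) (e.symm : B →+* A ⧸ RingHom.ker ψ)
  have he : ∀ r : A, e.symm (ψ r) = Ideal.Quotient.mk _ r := fun r => by
    rw [RingEquiv.symm_apply_eq]
    rfl
  obtain ⟨g, hg, -⟩ := h.lift (M ⧸ N) N.mkQ.toAddMonoidHom (fun r m => by
    change N.mkQ (r • m) = e.symm (ψ r) • N.mkQ m
    rw [he, map_smul]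
    rfl)
  have h1 : N.mkQ x = 0 := by
    have := hg x
    rw [hx, map_zero] at this
    exact this.symm
  exact (Submodule.Quotient.mk_eq_zero N).1 h1

end Alg

variable {S : Scheme.{u}} {𝒳 : BasedCategory.{v, w} (Over S)} (h𝒳 : FibCat.IsFibGrpd 𝒳.p)

include h𝒳 in
/-- The closed subobject of an affine object defined by an ideal. -/
theorem exists_quotObj (ξ : 𝒳.obj) [hξ : IsAffine (sch 𝒳 ξ)] (I : Ideal Γ(sch 𝒳 ξ, ⊤)) :
    ∃ (z : 𝒳.obj) (c : z ⟶ ξ), IsAffine (sch 𝒳 z) ∧ Function.Surjective (ringMap c) ∧ RingHom.ker (ringMap c) = I := by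
  let R : CommRingCat.{u} := CommRingCat.of (Γ(sch 𝒳 ξ, ⊤) ⧸ I)
  let φ : Γ(sch 𝒳 ξ, ⊤) ⟶ R := CommRingCat.ofHom (Ideal.Quotient.mk I)
  obtain ⟨z, c, e, hc⟩ := exists_lift_sch h𝒳 ξ (Spec.map φ ≫ (sch 𝒳 ξ).isoSpec.inv)
  have h1 : (bmap 𝒳 c).appTop = φ ≫ (Scheme.ΓSpecIso R).inv ≫ e.hom.appTop := by
    rw [hc, Scheme.Hom.comp_appTop, Scheme.Hom.comp_appTop]
    have h2 : (sch 𝒳 ξ).isoSpec.inv.appTop = (Scheme.ΓSpecIso Γ(sch 𝒳 ξ, ⊤)).inv := by
      have h3 : (sch 𝒳 ξ).isoSpec.hom.appTop = (Scheme.ΓSpecIso Γ(sch 𝒳 ξ, ⊤)).hom := by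
        rw [Scheme.isoSpec_hom, Scheme.toSpecΓ_appTop]
      have h4 : (sch 𝒳 ξ).isoSpec.inv.appTop ≫ (sch 𝒳 ξ).isoSpec.hom.appTop = 𝟙 _ := by
        rw [← Scheme.Hom.comp_appTop, Iso.hom_inv_id, Scheme.Hom.id_appTop]
      rw [h3] at h4
      exact (Iso.comp_hom_eq_id _).1 h4
    rw [h2, Scheme.ΓSpecIso_inv_naturality_assoc, Category.assoc]
  have hbij : Function.Bijective ((Scheme.ΓSpecIso R).inv ≫ e.hom.appTop).hom :=
    ConcreteCategory.bijective_of_isIso ((Scheme.ΓSpecIso R).inv ≫ e.hom.appTop)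
  have h5 : ringMap c = ((Scheme.ΓSpecIso R).inv ≫ e.hom.appTop).hom.comp (Ideal.Quotient.mk I) := by
    unfold ringMap
    rw [h1]
    rfl
  refine ⟨z, c, IsAffine.of_isIso e.hom, ?_, ?_⟩
  · rw [h5]
    exact hbij.2.comp Ideal.Quotient.mk_surjective
  · ext a
    rw [h5, RingHom.mem_ker, RingHom.comp_apply, ← Ideal.Quotient.eq_zero_iff_mem]
    constructor
    · intro h
      exact hbij.1 (h.trans (map_zero _).symm)
    · intro h
      rw [h, map_zero]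

include h𝒳 in
/-- Factorisation through a closed subobject. -/
theorem exists_fac {ξ z y : 𝒳.obj} [hξ : IsAffine (sch 𝒳 ξ)] [hz : IsAffine (sch 𝒳 z)] [hy : IsAffine (sch 𝒳 y)]
    (c : z ⟶ ξ) (hc : Function.Surjective (ringMap c)) (φ : y ⟶ ξ) (h : RingHom.ker (ringMap c) ≤ RingHom.ker (ringMap φ)) :
    ∃ ψ : y ⟶ z, ψ ≫ c = φ := by
  let θ : Γ(sch 𝒳 z, ⊤) →+* Γ(sch 𝒳 y, ⊤) := (RingHom.liftOfSurjective (ringMap c) hc) ⟨ringMap φ, h⟩
  have hθ : θ.comp (ringMap c) = ringMap φ := (ringMap c).liftOfRightInverse_comp _ _ _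
  let g : sch 𝒳 y ⟶ sch 𝒳 z := (sch 𝒳 y).isoSpec.hom ≫ Spec.map (CommRingCat.ofHom θ) ≫ (sch 𝒳 z).isoSpec.inv
  have hg : g.appTop = CommRingCat.ofHom θ := by
    have h2 : ∀ (X : Scheme.{u}) [IsAffine X], X.isoSpec.inv.appTop = (Scheme.ΓSpecIso Γ(X, ⊤)).inv := by
      intro X _
      have h3 : X.isoSpec.hom.appTop = (Scheme.ΓSpecIso Γ(X, ⊤)).hom := by
        rw [Scheme.isoSpec_hom, Scheme.toSpecΓ_appTop]
      have h4 : X.isoSpec.inv.appTop ≫ X.isoSpec.hom.appTop = 𝟙 _ := by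
        rw [← Scheme.Hom.comp_appTop, Iso.hom_inv_id, Scheme.Hom.id_appTop]
      rw [h3] at h4
      exact (Iso.comp_hom_eq_id _).1 h4
    rw [Scheme.Hom.comp_appTop, Scheme.Hom.comp_appTop, h2, Category.assoc, ← Scheme.ΓSpecIso_inv_naturality_assoc,
      Scheme.isoSpec_hom, Scheme.toSpecΓ_appTop, Iso.inv_hom_id, Category.comp_id]
  obtain ⟨ψ, ⟨-, hψ⟩, -⟩ := existsUnique_hom_sch h𝒳 c φ g (by
    apply ext_of_isAffine
    rw [Scheme.Hom.comp_appTop, hg]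
    ext a
    exact congrArg (fun k : Γ(sch 𝒳 ξ, ⊤) →+* Γ(sch 𝒳 y, ⊤) => k a) hθ)
  exact ⟨ψ, hψ⟩

/-- `Q` is stable under sources of arrows and cuts out closed loci in affine objects. -/
structure IsClQ (Q : 𝒳.obj → Prop) : Prop where
  of_hom : ∀ ⦃y x : 𝒳.obj⦄ (_ : y ⟶ x), Q x → Q y
  locus : ∀ ξ : 𝒳.obj, IsAffine (sch 𝒳 ξ) → ∃ (ξ' : 𝒳.obj) (c : ξ' ⟶ ξ), IsAffine (sch 𝒳 ξ') ∧
    Function.Surjective (ringMap c) ∧ Q ξ' ∧ ∀ ⦃y : 𝒳.obj⦄ (φ : y ⟶ ξ), Q y → ∃ ψ : y ⟶ ξ', ψ ≫ c = φ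

include h𝒳 in
theorem isClQ_of_hasLoci {Q : 𝒳.obj → Prop} (hi : ObjectProperty.IsClosedUnderIsomorphisms Q)
    (H : K737.Pts.HasLoci @IsClosedImmersion Q) : IsClQ Q where
  of_hom y x f hx := H.of_hom h𝒳 hi f hx
  locus ξ hξ := by
    obtain ⟨y, ε, hε⟩ := K737.Core.exists_yo h𝒳 ξ rfl
    obtain ⟨Z, i, hi', hl⟩ := H (𝒳.p.obj ξ) y
    have hcl : IsClosedImmersion i.left := hi'
    obtain ⟨ξ', c, e, hc⟩ := exists_lift_sch h𝒳 ξ i.left
    have hcl' : IsClosedImmersion (bmap 𝒳 c) := by rw [hc]; infer_instance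
    have ha : IsAffine (sch 𝒳 ξ') := isAffine_of_isAffineHom (bmap 𝒳 c)
    -- `Q x` for `x` with an arrow `φ` to `ξ` iff the arrow factors through `i`
    have key : ∀ (x : 𝒳.obj) (φ : x ⟶ ξ), Q x ↔ ∃ h : 𝒳.p.obj x ⟶ Z, h ≫ i = 𝒳.p.map φ := by
      intro x φ
      have l1 : 𝒳.p.IsHomLift (𝒳.p.map φ) (K737.Core.toBase y (Over.mk (𝒳.p.map φ)) ≫ ε.hom) := by
        have := K737.Core.toBase_isHomLift y (Over.mk (𝒳.p.map φ))
        have h2 : 𝒳.p.IsHomLift (Over.mk (𝒳.p.map φ)).hom (K737.Core.toBase y (Over.mk (𝒳.p.map φ)) ≫ ε.hom) :=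
          IsHomLift.comp_lift_id_right 𝒳.p _ _ ε.hom
        exact h2
      have l2 : 𝒳.p.IsHomLift (𝒳.p.map φ) φ := IsHomLift.map 𝒳.p φ
      obtain ⟨χ, -, -, -, -⟩ := K895.Fib.exists_iso h𝒳 (𝒳.p.map φ)
        (K737.Core.toBase y (Over.mk (𝒳.p.map φ)) ≫ ε.hom) φ l1 l2
      exact ⟨fun h => (hl (Over.mk (𝒳.p.map φ))).1 (hi.of_iso χ h),
        fun h => hi.of_iso χ.symm ((hl (Over.mk (𝒳.p.map φ))).2 h)⟩
    refine ⟨ξ', c, ha, ?_, ?_, ?_⟩
    · exact (IsClosedImmersion.isAffine_surjective_of_isAffine (bmap 𝒳 c)).2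
    · refine (key ξ' c).2 ⟨Over.homMk e.hom ?_, Over.OverMorphism.ext hc.symm⟩
      rw [← Over.w i, ← Category.assoc]
      exact (congrArg (· ≫ (𝒳.p.obj ξ).hom) hc.symm).trans (Over.w (𝒳.p.map c))
    · intro x φ hx
      obtain ⟨h, hh⟩ := (key x φ).1 hx
      obtain ⟨ψ, ⟨-, hψ⟩, -⟩ := existsUnique_hom_sch h𝒳 c φ (h.left ≫ e.inv) (by
        rw [hc, Category.assoc, Iso.inv_hom_id_assoc]
        exact congrArg (fun k => Over.Hom.left k) hh)
      exact ⟨ψ, hψ⟩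

/-- The sections of `F` over `ξ` restricting to zero over the objects of `Q`. -/
def ker (Q : 𝒳.obj → Prop) (F : Mod 𝒳) (ξ : 𝒳.obj) : Submodule Γ(sch 𝒳 ξ, ⊤) Γ(F.obj ξ, ⊤) where
  carrier := {x | ∀ (y : 𝒳.obj) (φ : y ⟶ ξ), IsAffine (sch 𝒳 y) → Q y → F.mapTop φ x = 0}
  add_mem' {a b} ha hb y φ hy hq := by rw [F.mapTop_add, ha y φ hy hq, hb y φ hy hq, add_zero]
  zero_mem' y φ hy hq := F.mapTop_zero φ
  smul_mem' r a ha y φ hy hq := by rw [F.mapTop_smul, ha y φ hy hq, smul_zero]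

theorem mem_ker {Q : 𝒳.obj → Prop} {F : Mod 𝒳} {ξ : 𝒳.obj} {x : Γ(F.obj ξ, ⊤)} :
    x ∈ ker Q F ξ ↔ ∀ (y : 𝒳.obj) (φ : y ⟶ ξ), IsAffine (sch 𝒳 y) → Q y → F.mapTop φ x = 0 := Iff.rfl

variable {Q : 𝒳.obj → Prop}

include h𝒳 in
theorem pull_ker (hQ : IsClQ Q) (F : QCoh 𝒳) {ξ' ξ : 𝒳.obj} [IsAffine (sch 𝒳 ξ)] [IsAffine (sch 𝒳 ξ')] (φ : ξ' ⟶ ξ) :
    pull φ (ker Q F.obj ξ) = ker Q F.obj ξ' := by
  apply le_antisymm
  · unfold pull
    rw [ext_le]
    intro x hx y ψ hy hq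
    rw [resTop_apply, ← F.obj.mapTop_comp]
    exact hx y (ψ ≫ φ) hy hq
  · intro x hx
    obtain ⟨z, c, hz, hc, hqz, hcu⟩ := hQ.locus ξ inferInstance
    -- the closed subobject of `ξ'` defined by the ideal of `z`
    obtain ⟨z', c', hz', hc', hk⟩ := exists_quotObj h𝒳 ξ' ((RingHom.ker (ringMap c)).map (ringMap φ))
    obtain ⟨ψ, hψ⟩ := exists_fac h𝒳 c hc (c' ≫ φ) (by
      intro a ha
      rw [RingHom.mem_ker, ringMap_comp, RingHom.comp_apply, ← RingHom.mem_ker, hk]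
      exact Ideal.mem_map_of_mem _ ha)
    have h1 : F.obj.mapTop c' x = 0 := hx z' c' hz' (hQ.of_hom ψ hqz)
    have h2 : x ∈ (RingHom.ker (ringMap c') • ⊤ : Submodule Γ(sch 𝒳 ξ', ⊤) Γ(F.obj.obj ξ', ⊤)) :=
      mem_smul_top_of_eq_zero (isBC_resTop F c') hc' h1
    rw [hk] at h2
    -- `J Γ(F_ξ) ⊆ ker`
    have h3 : ∀ a ∈ RingHom.ker (ringMap c), ∀ m : Γ(F.obj.obj ξ, ⊤), a • m ∈ ker Q F.obj ξ := by
      intro a ha m y χ hy hq
      obtain ⟨ω, rfl⟩ := hcu χ hq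
      rw [F.obj.mapTop_smul]
      have : (bmap 𝒳 (ω ≫ c)).appTop a = 0 := by
        change ringMap (ω ≫ c) a = 0
        rw [ringMap_comp, RingHom.comp_apply, (RingHom.mem_ker).1 ha, map_zero]
      rw [this, zero_smul]
    have h4 : ∀ b ∈ (RingHom.ker (ringMap c)).map (ringMap φ), ∀ m : Γ(F.obj.obj ξ', ⊤),
        b • m ∈ pull φ (ker Q F.obj ξ) := by
      intro b hb m
      induction hb using Submodule.span_induction with
      | mem b hb =>
        obtain ⟨a, ha, rfl⟩ := hb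
        have hm : m ∈ Submodule.span Γ(sch 𝒳 ξ', ⊤) (Set.range (resTop F.obj φ)) := by
          rw [span_range (isBC_resTop F φ)]
          trivial
        induction hm using Submodule.span_induction with
        | mem m hm =>
          obtain ⟨m, rfl⟩ := hm
          rw [← resTop_smul]
          exact mem_pull φ (h3 a ha m)
        | zero =>
          rw [smul_zero]
          exact Submodule.zero_mem _
        | add m m' _ _ hm hm' =>
          rw [smul_add]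
          exact Submodule.add_mem _ hm hm'
        | smul r m _ hm =>
          rw [smul_comm]
          exact Submodule.smul_mem _ r hm
      | zero =>
        rw [zero_smul]
        exact Submodule.zero_mem _
      | add b b' _ _ hb hb' =>
        rw [add_smul]
        exact Submodule.add_mem _ hb hb'
      | smul r b _ hb =>
        rw [smul_eq_mul, mul_smul]
        exact Submodule.smul_mem _ r hb
    refine Submodule.smul_induction_on h2 (fun b hb m _ => h4 b hb m) (fun x y hx hy => Submodule.add_mem _ hx hy)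

include h𝒳 in
/-- The quotient of `F` by the sections vanishing on `Q`. -/
theorem exists_restr (hQ : IsClQ Q) (F : QCoh 𝒳) : ∃ (F' : QCoh 𝒳) (q : F ⟶ F'), Mod.IsSurj q.hom ∧
    ∀ (ξ : 𝒳.obj) [IsAffine (sch 𝒳 ξ)] (x : Γ(F.obj.obj ξ, ⊤)), (q.hom.app ξ).app ⊤ x = 0 ↔ x ∈ ker Q F.obj ξ :=
  exists_quotient h𝒳 F (fun ξ _ => ker Q F.obj ξ) (fun ξ' ξ _ _ φ => pull_ker h𝒳 hQ F φ)

include h𝒳 in
/-- Compatible sections over the objects of `Q` are global sections of the quotient. -/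
theorem exists_sections (hQ : IsClQ Q) (F : QCoh 𝒳) {F' : QCoh 𝒳} {q : F ⟶ F'} (hq : Mod.IsSurj q.hom)
    (hk : ∀ (ξ : 𝒳.obj) [IsAffine (sch 𝒳 ξ)] (x : Γ(F.obj.obj ξ, ⊤)), (q.hom.app ξ).app ⊤ x = 0 ↔ x ∈ ker Q F.obj ξ)
    (b : ∀ (y : 𝒳.obj), Q y → Γ(F.obj.obj y, ⊤))
    (hb : ∀ ⦃y' y : 𝒳.obj⦄ (φ : y' ⟶ y) (h' : Q y') (h : Q y), F.obj.mapTop φ (b y h) = b y' h') :
    ∃ e : F'.obj.GlobSect, ∀ (y : 𝒳.obj) (_ : IsAffine (sch 𝒳 y)) (h : Q y) (x : Γ(F.obj.obj y, ⊤)),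
      (q.hom.app y).app ⊤ x = e.1 y → x = b y h := by
  haveI := h𝒳
  have hu : ∀ ζ : (K908.AMod.ASieve.all 𝒳).cat.obj, ∃ x : Γ(F.obj.obj ζ.obj, ⊤), ∀ (y : 𝒳.obj) (ψ : y ⟶ ζ.obj) (h : Q y),
      F.obj.mapTop ψ x = b y h := by
    intro ζ
    haveI : IsAffine (sch 𝒳 ζ.obj) := ζ.property
    obtain ⟨z, c, hz, hc, hqz, hcu⟩ := hQ.locus ζ.obj inferInstance
    obtain ⟨x, hx⟩ := surjective_of_isBC (isBC_resTop F c) hc (b z hqz)
    refine ⟨x, fun y ψ h => ?_⟩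
    obtain ⟨χ, rfl⟩ := hcu ψ h
    rw [F.obj.mapTop_comp, ← resTop_apply F.obj c, hx, hb χ h hqz]
  choose uu huu using hu
  obtain ⟨e, he⟩ := K908.QHom.exists_globSect (C := K908.AMod.ASieve.all 𝒳) K908.Fam.zloc_all F'
    (fun ζ => (q.hom.app ζ.obj).app ⊤ (uu ζ)) (by
      intro ζ' ζ φ
      haveI : IsAffine (sch 𝒳 ζ.obj) := ζ.property
      haveI : IsAffine (sch 𝒳 ζ'.obj) := ζ'.property
      rw [Mod.mapTop_app, ← sub_eq_zero, ← map_sub, hk ζ'.obj]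
      intro y ψ hy h
      have e1 : F.obj.mapTop ψ (F.obj.mapTop φ.hom (uu ζ) - uu ζ') =
          F.obj.mapTop ψ (F.obj.mapTop φ.hom (uu ζ)) - F.obj.mapTop ψ (uu ζ') := map_sub (resTop F.obj ψ) _ _
      rw [e1, ← F.obj.mapTop_comp, huu ζ y (ψ ≫ φ.hom) h, huu ζ' y ψ h, sub_self])
  refine ⟨e, fun y hy h x hx => ?_⟩
  let ζ : (K908.AMod.ASieve.all 𝒳).cat.obj := ⟨y, hy⟩
  have h1 : (q.hom.app y).app ⊤ (x - uu ζ) = 0 := by
    rw [map_sub, sub_eq_zero]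
    exact hx.trans (he ζ)
  rw [hk y] at h1
  have h2 := h1 y (𝟙 y) hy h
  rw [F.obj.mapTop_id, sub_eq_zero] at h2
  rw [h2]
  have h3 := huu ζ y (𝟙 y) h
  rw [F.obj.mapTop_id] at h3
  exact h3

end K815.QLoc
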