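import Groth.Agent.StMod.K815.Bad
import Groth.Agent.StMod.K815.QLoc
import Groth.Agent.StMod.K864.Sep
import Groth.Agent.StMod.K908.Push

/-!
# Good étale neighbourhoods (helper815)

`π : 𝒳 ⥤ᵇ ofSp M` cohomologically affine with `UnitIsIso`, `F` a vector bundle on `𝒳`, `ξ₀` a closed point of `|𝒳|` whose
field-valued objects lie in a closed `Q` over the objects of which `F` has a compatible basis: every étale affine object of `M`
has, near the image of `ξ₀`, an open neighbourhood over which `F` has a basis of relative sections.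
-/

set_option autoImplicit false
set_option linter.unusedVariables false
set_option linter.style.haveILetI false
set_option backward.isDefEq.respectTransparency false
set_option backward.isDefEq.respectTransparency.types false

universe w' v' w v u

open CategoryTheory CategoryTheory.Limits AlgebraicGeometry Opposite StMod AlgSt AlgSp TopologicalSpace

namespace K815.Loc

open K815.BasisAlg K815.Bad K815.QLoc K906 K907.Free K907.Atl K907.Pt K907.Van K907.Closed K907.GM K907.ResPt K907.Sec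
  K908.Push K864.Sep

section Fam

variable {S : Scheme.{u}} {𝒳 : BasedCategory.{v, w} (Over S)} {𝒴 : BasedCategory.{v', w'} (Over S)}

/-- The sections `s` of `π_* F` over `η` form a basis of `F` over all affine objects over `η`. -/
def GoodFam (π : 𝒳 ⥤ᵇ 𝒴) (F : QCoh 𝒳) {I : Type u} {η : 𝒴.obj} (s : I → Mod.RelSect π F.obj η) : Prop :=
  ∀ (ξ : 𝒳.obj) (α : π.obj ξ ⟶ η), IsAffine (sch 𝒳 ξ) → Bs Γ(sch 𝒳 ξ, ⊤) (fun i => (s i).1 ξ α)

theorem GoodFam.res {π : 𝒳 ⥤ᵇ 𝒴} {F : QCoh 𝒳} {I : Type u} {η' η : 𝒴.obj} (k : η' ⟶ η)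
    {s : I → Mod.RelSect π F.obj η} (h : GoodFam π F s) : GoodFam π F (fun i => relRes π F.obj k (s i)) :=
  fun ξ α hξ => h ξ (α ≫ k) hξ

end Fam

variable {S : Scheme.{u}} {𝒳 : BasedCategory.{v, w} (Over S)} {M : Sp S} (h𝒳 : FibCat.IsFibGrpd 𝒳.p)
  {π : 𝒳 ⥤ᵇ ofSp M}

include h𝒳 in
/-- Disjoint closed sets of points of `𝒳_E` are separated by a function of `E`. -/
theorem exists_sepFn' (hL : K864.Sep.Loc π) (hu : UnitIsIso π) (E : EtOver M) (hE : IsAffine E.obj.left.left)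
    (h𝒴 : FibCat.IsFibGrpd (K906.fibCat π (etaOf E)).p)
    {W₁ W₂ : Set (Points (K906.fibCat π (etaOf E)))} (h₁ : IsCl h𝒴 W₁) (h₂ : IsCl h𝒴 W₂) (hd : Disjoint W₁ W₂) :
    ∃ f : Γ(sch (ofSp M) (etaOf E), ⊤), ∀ (ξ : 𝒳.obj) (α : π.obj ξ ⟶ etaOf E) (t : ↥(sch 𝒳 ξ)), IsAffine (sch 𝒳 ξ) →
      (pt h𝒴 (⟨ξ, α⟩ : FObj π (etaOf E)) t ∈ W₁ → f ∈ (sp ((baseOver π ξ α).left t)).asIdeal) ∧
      (pt h𝒴 (⟨ξ, α⟩ : FObj π (etaOf E)) t ∈ W₂ → 1 - f ∈ (sp ((baseOver π ξ α).left t)).asIdeal) := by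
  obtain ⟨hex, ⟨P⟩⟩ := hL E hE
  obtain ⟨Q, q, e, hq, he⟩ := exists_sep h𝒴 (smCov_of_pres.{0} P) h₁ h₂ hd
  obtain ⟨s, hs⟩ := hex q hq e
  obtain ⟨f, hf⟩ := (isFn π E hu).2 s
  refine ⟨f, fun ξ α t hξ => ?_⟩
  let a : FObj π (etaOf E) := ⟨ξ, α⟩
  have hk : (q.hom.app a).app ⊤ ((baseOver π ξ α).left.appTop f) = e.1 a := by
    rw [← hs, Mod.globSectMap_val, ← hf]
    rfl
  have := he a hξ _ hk
  constructor
  · intro ht
    exact (mem_sp_comp _ _ _).2 (this.1 t ht)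
  · intro ht
    refine (mem_sp_comp _ _ _).2 ?_
    rw [map_sub, map_one]
    exact this.2 t ht

theorem map_pt_fibPt {η : (ofSp M).obj} (h𝒴 : FibCat.IsFibGrpd (K906.fibCat π η).p) (a : FObj π η) (t : ↥(sch 𝒳 a.pt)) :
    Points.map (fibPt π η) (pt h𝒴 a t) = pt h𝒳 a.pt t := by
  have := map_pt h𝒴 h𝒳 (fibPt π η) (ξ := a) (𝟙 _) t
  rw [this]
  congr 1
  have e : (baseOver (fibPt π η) a (𝟙 ((fibPt π η).obj a))) = 𝟙 (𝒳.p.obj a.pt) := by
    unfold baseOver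
    rw [CategoryTheory.Functor.map_id]
    exact Category.comp_id _
  rw [e]
  rfl

include h𝒳 in
/-- Good étale neighbourhoods. -/
theorem exists_goodFam {Q : 𝒳.obj → Prop} (hQ : IsClQ Q) {ξ₀ : Points 𝒳} (hcl : IsCl h𝒳 {ξ₀})
    (hpt : ∀ p : FPt 𝒳, Points.mk p = ξ₀ → Q p.obj) {F : QCoh 𝒳} (hF : F.obj.IsLocFree) (hF' : F.obj.IsFinType)
    {I : Type u} [Finite I] (b : I → ∀ y : 𝒳.obj, Q y → Γ(F.obj.obj y, ⊤))
    (hb : ∀ (i : I) ⦃y' y : 𝒳.obj⦄ (φ : y' ⟶ y) (h' : Q y') (h : Q y), F.obj.mapTop φ (b i y h) = b i y' h')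
    (hbs : ∀ (y : 𝒳.obj) (h : Q y), Bs Γ(sch 𝒳 y, ⊤) (fun i => b i y h))
    (hcoh : IsCohAffine π) (hu : UnitIsIso π) (hL : K864.Sep.Loc π) {m : (ofSp M).obj} (hm : SpGeo.IsEt m)
    (hma : IsAffine m.base.left) {ξ₁ : 𝒳.obj} (hξ₁ : IsAffine (sch 𝒳 ξ₁)) (α₁ : π.obj ξ₁ ⟶ m) (t₁ : ↥(sch 𝒳 ξ₁))
    (ht₁ : pt h𝒳 ξ₁ t₁ = ξ₀) :
    ∃ (m' : (ofSp M).obj) (k : m' ⟶ m) (s : I → Mod.RelSect π F.obj m'), SpGeo.IsEt m' ∧ IsOpenImmersion k.hom.left ∧
      IsAffine m'.base.left ∧ (baseOver π ξ₁ α₁).left t₁ ∈ Set.range k.hom.left ∧ GoodFam π F s := by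
  obtain ⟨E, hE⟩ := SpGeo.exists_etaOf hm
  subst hE
  have hE' : IsAffine E.obj.left.left := hma
  have h𝒴 : FibCat.IsFibGrpd (K906.fibCat π (etaOf E)).p := isFibGrpd_fibCat h𝒳
  obtain ⟨F', q, hq, hk⟩ := exists_restr h𝒳 hQ F
  have hsec : ∀ i, ∃ e : F'.obj.GlobSect, ∀ (y : 𝒳.obj) (_ : IsAffine (sch 𝒳 y)) (h : Q y) (x : Γ(F.obj.obj y, ⊤)),
      (q.hom.app y).app ⊤ x = e.1 y → x = b i y h := fun i => exists_sections h𝒳 hQ F hq hk (b i) (hb i)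
  choose e he using hsec
  have hlift : ∀ i, ∃ s : Mod.RelSect π F.obj (etaOf E), Mod.relSectMap π q.hom (etaOf E) s =
      (⟨fun ξ _ => (e i).1 ξ, fun ξ' ξ φ _ => (e i).2 φ⟩ : Mod.RelSect π F'.obj (etaOf E)) := fun i => hcoh q hq E hE' _
  choose s hs using hlift
  have hsb : ∀ (i : I) (y : 𝒳.obj) (α : π.obj y ⟶ etaOf E) (_ : IsAffine (sch 𝒳 y)) (h : Q y), (s i).1 y α = b i y h := by
    intro i y α hy h
    refine he i y hy h _ ?_
    exact congrArg (fun k : Mod.RelSect π F'.obj (etaOf E) => k.1 y α) (hs i)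
  let G : QCoh (K906.fibCat π (etaOf E)) := resQ π (etaOf E) F
  have hG : G.obj.IsLocFree := fun a => hF (FObj.pt a)
  have hG' : G.obj.IsFinType := fun a => hF' (FObj.pt a)
  let s' : I → G.obj.GlobSect := fun i => toGlob (s i)
  have hT : IsCl h𝒴 (Points.map (fibPt π (etaOf E)) ⁻¹' {ξ₀}) := by
    intro a ha
    have : prei h𝒴 (Points.map (fibPt π (etaOf E)) ⁻¹' {ξ₀}) a = prei h𝒳 {ξ₀} a.pt := by
      ext t
      change Points.map (fibPt π (etaOf E)) (pt h𝒴 a t) ∈ ({ξ₀} : Set (Points 𝒳)) ↔ pt h𝒳 a.pt t ∈ ({ξ₀} : Set (Points 𝒳))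
      rw [map_pt_fibPt h𝒳]
    rw [this]
    exact hcl a.pt ha
  have hdis : Disjoint (bad G s') (Points.map (fibPt π (etaOf E)) ⁻¹' {ξ₀}) := by
    rw [Set.disjoint_left]
    rintro x ⟨p, rfl, hp⟩ hx₂
    have hQp : Q (FObj.pt p.obj) := hpt (p.map (fibPt π (etaOf E))) hx₂
    apply hp
    have ha := isAffine_fpt p
    have h1 := hbs (FObj.pt p.obj) hQp
    have e1 : (fun i => b i (FObj.pt p.obj) hQp) = fun i => (s i).1 (FObj.pt p.obj) (FObj.arr p.obj) := by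
      funext i
      exact (hsb i _ _ ha hQp).symm
    rw [e1] at h1
    exact h1
  obtain ⟨f, hf⟩ := exists_sepFn' h𝒳 hL hu E hE' h𝒴 (isCl_bad h𝒴 hG hG' s') hT hdis
  let f' : Γ((etaOf E).base.left, ⊤) := f
  let U : (etaOf E).base.left.Opens := (etaOf E).base.left.basicOpen f'
  have hUa : IsAffine (mo (etaOf E) U).base.left :=
    haveI : IsAffine (etaOf E).base.left := hma
    (isAffineOpen_top (etaOf E).base.left).basicOpen f'
  refine ⟨mo (etaOf E) U, moι _ U, fun i => relRes π F.obj (moι _ U) (s i), isEt_mo U hm, inferInstance, hUa, ?_, ?_⟩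
  · rw [range_moι]
    have h1 : 1 - f' ∈ (sp ((baseOver π ξ₁ α₁).left t₁)).asIdeal := (hf ξ₁ α₁ t₁ hξ₁).2 (by
      rw [Set.mem_preimage, map_pt_fibPt h𝒳]
      exact ht₁)
    have h2 : f' ∉ (sp ((baseOver π ξ₁ α₁).left t₁)).asIdeal := by
      intro h3
      have := Ideal.add_mem _ h3 h1
      rw [add_sub_cancel] at this
      exact (sp ((baseOver π ξ₁ α₁).left t₁)).isPrime.ne_top ((Ideal.eq_top_iff_one _).2 this)
    rw [mem_sp, not_not] at h2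
    exact h2
  · intro ξ α hξ
    refine bsAt_of_forall (𝒳 := K906.fibCat π (etaOf E)) h𝒴 hG hG' s' (⟨ξ, α ≫ moι _ U⟩ : FObj π (etaOf E)) (hξ := hξ) ?_
    intro t ht
    have h5 := (hf ξ (α ≫ moι _ U) t hξ).1 ht
    refine (mem_sp f' _).1 h5 ?_
    rw [baseOver_comp]
    exact ((baseOver π ξ α).left t).2

end K815.Loc
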